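import Cfsg.Agent.H18.KappaB

/-!
# S5260-R3 : uniqueness of the data up to an automorphism of `S` (helper18)
-/

set_option autoImplicit false

universe u v

namespace Cfsg.Agent.H18.Kappa

open Cfsg Cfsg.FusionSystem Cfsg.Agent.H802 Cfsg.Agent.H780

variable {Ω : Type u} [Group Ω] {S : Subgroup Ω} {K : Type v} [Field K]

/-- The central automorphism `z ↦ z + e s + e' t`. -/
theorem exists_central (C : SpC S K) [Finite S] (e e' : K) :
    ∃ κ ∈ NN C, ∀ x : S, C.t (κ x : S) = C.t x ∧ C.s (κ x : S) = C.s x ∧ C.u (κ x : S) = C.u x ∧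
      C.z (κ x : S) = C.z x + e * C.s x + e' * C.t x := by
  choose ζ hζS hζt hζs hζu hζz using fun c : K => C.surj 0 0 0 c
  let f : S → S := fun x => ⟨(x : Ω) * ζ (e * C.s x + e' * C.t x), S.mul_mem x.2 (hζS _)⟩
  have hf : ∀ x : S, ((f x : S) : Ω) = (x : Ω) * ζ (e * C.s x + e' * C.t x) := fun _ => rfl
  have ht : ∀ x : S, C.t (f x : S) = C.t x := by
    intro x
    rw [hf, C.t_mul x.2 (hζS _), hζt, add_zero]
  have hs : ∀ x : S, C.s (f x : S) = C.s x := by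
    intro x
    rw [hf, C.s_mul x.2 (hζS _), hζs, add_zero]
  have hu : ∀ x : S, C.u (f x : S) = C.u x := by
    intro x
    rw [hf, C.u_mul x.2 (hζS _), hζu, hζs]; ring
  have hz : ∀ x : S, C.z (f x : S) = C.z x + e * C.s x + e' * C.t x := by
    intro x
    rw [hf, C.z_mul x.2 (hζS _), hζu, hζs, hζz]; ring
  have hinj : Function.Injective f := by
    intro x y hxy
    apply Subtype.ext
    have h1 := ht x
    rw [hxy, ht] at h1
    have h2 := hs x
    rw [hxy, hs] at h2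
    have h3 := hu x
    rw [hxy, hu] at h3
    have h4 := hz x
    rw [hxy, hz, h1, h2] at h4
    exact C.inj x.2 y.2 h1.symm h2.symm h3.symm (by linear_combination -h4)
  have hmul : ∀ x y : S, f (x * y) = f x * f y := by
    intro x y
    apply Subtype.ext
    have hx := (f x).2
    have hy := (f y).2
    have e1 : C.t ((x * y : S) : Ω) = C.t x + C.t y := C.t_mul x.2 y.2
    have e2 : C.s ((x * y : S) : Ω) = C.s x + C.s y := C.s_mul x.2 y.2
    have e3 : C.u ((x * y : S) : Ω) = C.u x + C.u y + C.t x * C.s y := C.u_mul x.2 y.2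
    have e4 : C.z ((x * y : S) : Ω) = C.z x + C.z y + 2 * C.t x * C.u y + C.t x ^ 2 * C.s y :=
      C.z_mul x.2 y.2
    apply C.inj (f (x * y)).2 (S.mul_mem hx hy)
    · rw [ht, C.t_mul hx hy, ht, ht, e1]
    · rw [hs, C.s_mul hx hy, hs, hs, e2]
    · rw [hu, C.u_mul hx hy, hu, hu, ht, hs, e3]
    · rw [hz, C.z_mul hx hy, hz, hz, ht, hs, hu, e1, e2, e4]
      ring
  let κ : MulAut S := MulEquiv.ofBijective (MonoidHom.mk' f hmul)
    ⟨hinj, Finite.surjective_of_injective hinj⟩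
  have hκ : ∀ x, κ x = f x := fun _ => rfl
  refine ⟨κ, ⟨?_, ?_⟩, fun x => ⟨ht x, hs x, hu x, hz x⟩⟩
  · intro x hx
    have hx' : (x : Ω) ∈ C.Z1 := hx
    rw [hκ]
    apply Subtype.ext
    apply C.inj (f x).2 x.2 (ht x) (hs x) (hu x)
    rw [hz, hx'.2.1, hx'.2.2.1]; ring
  · intro x
    rw [hκ]
    exact inv_mul_mem_Z1 C x.2 (f x).2 (ht x).symm (hs x).symm (hu x).symm

section side

variable {F F₁ : FusionSystem S} {C : SpC S K} {P : Subgroup Ω} {v : Ω → K}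

/-- The shape of the swap over `F₂`. -/
theorem swap_form [Finite S] (hS : IsPGroup 2 S) (h2 : (2 : K) = 0) (h01 : ∀ c : K, c = 0 ∨ c = 1)
    (hF : F.IsSaturated 2) (hP : Side C P v) {n : MulAut P} (hn : n ∈ F.autGroup P)
    (hsw : IsSwap C P v n) : ∃ a : K, ∀ x : P, C.z (n x : P) = C.z x + a * (v x + C.u x) := by
  have hn2 : n * n = 1 := by
    refine eq_one_of_chain hS hF hP (mul_mem hn hn) ?_ ?_ ?_
    · intro x hx
      show n (n x) = x
      rw [hsw.triv x hx, hsw.triv x hx]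
    · intro x
      show v (n (n x) : P) = v x
      rw [hsw.vv, hsw.uu]
    · intro x
      show C.u (n (n x) : P) = C.u x
      rw [hsw.uu, hsw.vv]
  have hnn : ∀ x : P, n (n x) = x := fun x => congrArg (fun γ : MulAut P => γ x) hn2
  have hδ : ∀ x y : P, C.z (n (x * y) : P) - C.z ((x * y : P) : Ω) =
      (C.z (n x : P) - C.z x) + (C.z (n y : P) - C.z y) := by
    intro x y
    rw [map_mul]
    have e1 : C.z (((n x * n y : P) : P) : Ω) = C.z (n x : P) + C.z (n y : P) :=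
      hP.z_mul (n x).2 (n y).2
    have e2 : C.z ((x * y : P) : Ω) = C.z x + C.z y := hP.z_mul x.2 y.2
    rw [e1, e2]; ring
  obtain ⟨x₁, hx₁, h1, h3, -⟩ := hP.surj 1 0 0
  set w : P := ⟨x₁, hx₁⟩ with hw
  have hwv : v (w : P) = 1 := h1
  have hwu : C.u (w : P) = 0 := h3
  -- `δ` depends only on `(v, u)`
  have hdep : ∀ x y : P, v (x : Ω) = v y → C.u (x : Ω) = C.u y →
      C.z (n x : P) - C.z x = C.z (n y : P) - C.z y := by
    intro x y hv hu
    have h4 : ((x⁻¹ * y : P) : Ω) ∈ C.Z1 := by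
      rw [hP.mem_Z1 (x⁻¹ * y).2]
      have e0 : (x : Ω) * ((x⁻¹ * y : P) : Ω) = y := by
        show (x : Ω) * ((x : Ω)⁻¹ * y) = y
        exact mul_inv_cancel_left _ _
      have e1 := hP.v_mul x.2 (x⁻¹ * y).2
      have e2 := hP.u_mul x.2 (x⁻¹ * y).2
      rw [e0] at e1 e2
      exact ⟨by linear_combination -e1 - hv, by linear_combination -e2 - hu⟩
    have h5 := hδ x (x⁻¹ * y)
    rw [mul_inv_cancel_left, hsw.triv _ h4, sub_self, add_zero] at h5
    exact h5.symm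
  refine ⟨C.z (n w : P) - C.z w, fun x => ?_⟩
  have hwn : C.z (n (n w) : P) - C.z (n w : P) = C.z (n w : P) - C.z w := by
    rw [hnn]
    linear_combination (C.z w - C.z (n w : P)) * h2
  rcases h01 (v x) with hv | hv <;> rcases h01 (C.u x) with hu | hu
  · have h4 : (x : Ω) ∈ C.Z1 := (hP.mem_Z1 x.2).2 ⟨hv, hu⟩
    rw [hsw.triv x h4, hv, hu]; ring
  · have h5 := hdep x (n w) (by rw [hsw.vv, hv, hwu]) (by rw [hsw.uu, hu, hwv])
    rw [hwn] at h5
    rw [hv, hu]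
    linear_combination h5
  · have h5 := hdep x w (by rw [hv, hwv]) (by rw [hu, hwu])
    rw [hv, hu]
    linear_combination h5
  · have e1 := hP.v_mul w.2 (n w).2
    have e2 := hP.u_mul w.2 (n w).2
    have h5 := hdep x (w * n w)
      (by
        show v (x : Ω) = v ((w : Ω) * (n w : P))
        rw [e1, hsw.vv, hwv, hwu, hv]; ring)
      (by
        show C.u (x : Ω) = C.u ((w : Ω) * (n w : P))
        rw [e2, hsw.uu, hwv, hwu, hu]; ring)
    rw [hδ, hwn] at h5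
    rw [hv, hu]
    linear_combination h5

theorem swap_eq_of_two [Finite S] (hS : IsPGroup 2 S) (h2 : (2 : K) = 0) (h01 : ∀ c : K, c = 0 ∨ c = 1)
    (hF : F.IsSaturated 2) (hF₁ : F₁.IsSaturated 2) (hP : Side C P v) {n n₁ : MulAut P}
    (hn : n ∈ F.autGroup P) (hsw : IsSwap C P v n) (hn₁ : n₁ ∈ F₁.autGroup P) (hsw₁ : IsSwap C P v n₁) :
    ∃ e : K, ∀ k : MulAut P, (∀ x : P, v (k x : P) = v x ∧ C.u (k x : P) = C.u x ∧
      C.z (k x : P) = C.z x + e * v x) → k * n * k⁻¹ = n₁ := by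
  obtain ⟨a, ha⟩ := swap_form hS h2 h01 hF hP hn hsw
  obtain ⟨a₁, ha₁⟩ := swap_form hS h2 h01 hF₁ hP hn₁ hsw₁
  refine ⟨a + a₁, fun k hk => ?_⟩
  have h3 : k * n = n₁ * k := by
    ext x
    show ((k (n x) : P) : Ω) = (n₁ (k x) : P)
    apply hP.inj (k (n x)).2 (n₁ (k x)).2
    · rw [(hk (n x)).1, hsw.vv, hsw₁.vv, (hk x).2.1]
    · rw [(hk (n x)).2.1, hsw.uu, hsw₁.uu, (hk x).1]
    · rw [(hk (n x)).2.2, ha, ha₁, (hk x).2.2, (hk x).1, (hk x).2.1, hsw.vv]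
      linear_combination (a * C.u x - a₁ * v x) * h2
  rw [h3, mul_inv_cancel_right]

end side

/-- **S5260-R3.** -/
theorem exists_kappa [Finite K] [CharP K 2] [Finite S] (hS : IsPGroup 2 S) {F F₁ : FusionSystem S}
    (hF : F.IsSaturated 2) (hF₁ : F₁.IsSaturated 2) {C : SpC S K} {Δ : Subgroup Kˣ}
    (hK : ∀ c : K, c ≠ 0 → c ^ 3 = 1) (D : TwoData F C Δ) (D₁ : TwoData F₁ C Δ) :
    ∃ κ : MulAut S, (∀ x : S, (x : Ω) ∈ C.Z1 → κ x = x) ∧ (∀ x : S, ((x⁻¹ * κ x : S) : Ω) ∈ C.Z1) ∧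
      (∀ α : MulAut S, α ∈ F.autGroup S ↔ κ * α * κ⁻¹ ∈ F₁.autGroup S) ∧
      (∀ (k : MulAut C.M), (∀ x : C.M, ((k x : C.M) : Ω) = (κ ⟨x, C.M_le x.2⟩ : S)) →
        ∀ α : MulAut C.M, α ∈ F.autGroup C.M ↔ k * α * k⁻¹ ∈ F₁.autGroup C.M) ∧
      (∀ (k : MulAut (C.L 0)), (∀ x : C.L 0, ((k x : C.L 0) : Ω) = (κ ⟨x, C.L_le 0 x.2⟩ : S)) →
        ∀ α : MulAut (C.L 0), α ∈ F.autGroup (C.L 0) ↔ k * α * k⁻¹ ∈ F₁.autGroup (C.L 0)) := by
  have h2 : (2 : K) = 0 := by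
    have := CharP.cast_eq_zero K 2
    exact_mod_cast this
  obtain ⟨n, hn, hsw⟩ := exists_swap_M D
  obtain ⟨n₁, hn₁, hsw₁⟩ := exists_swap_M D₁
  obtain ⟨m, hm, hmw⟩ := exists_swap_L D
  obtain ⟨m₁, hm₁, hmw₁⟩ := exists_swap_L D₁
  by_cases h01 : ∀ c : K, c = 0 ∨ c = 1
  · -- `|K| = 2`
    have hunit : ∀ a : Kˣ, (a : K) = 1 := fun a => (h01 a).resolve_left a.ne_zero
    have hAI : ∀ {F : FusionSystem S}, F.IsSaturated 2 → TwoData F C Δ →
        ∀ α : MulAut S, α ∈ F.autGroup S ↔ α ∈ autInducedBy S S := by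
      intro F hF D α
      constructor
      · intro hα
        obtain ⟨a, b, -, r₁, r₂, h⟩ := exists_lin D hα
        rw [hunit a, hunit b] at h
        have e1 : (1 : K) * 1 = 1 := one_mul 1
        have e2 : (1 : K) ^ 2 * 1 = 1 := by ring
        rw [e1, e2] at h
        exact mem_inn_of_lin hS hF C h2 hα h
      · exact fun hα => autInducedBy_le_autGroup F le_rfl hα
    obtain ⟨e, he⟩ := swap_eq_of_two hS h2 h01 hF hF₁ (side_M C) hn hsw hn₁ hsw₁
    obtain ⟨e', he'⟩ := swap_eq_of_two hS h2 h01 hF hF₁ (side_L C h2) hm hmw hm₁ hmw₁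
    obtain ⟨κ, hκN, hκc⟩ := exists_central C e e'
    have hκ : ∀ α : MulAut S, α ∈ F.autGroup S ↔ κ * α * κ⁻¹ ∈ F₁.autGroup S := by
      intro α
      rw [hAI hF D, hAI hF₁ D₁]
      constructor
      · exact fun h => inn_conj κ h
      · intro h
        have h3 := inn_conj κ⁻¹ h
        have h4 : κ⁻¹ * (κ * α * κ⁻¹) * κ⁻¹⁻¹ = α := by group
        rwa [h4] at h3
    refine ⟨κ, hκN.1, hκN.2, hκ, fun k hk α => ?_, fun k hk α => ?_⟩
    · refine side_iff h2 (side_M C) (sideData_M D) (sideData_M D₁) hn hsw hn₁ hsw₁ hk hκ (he k ?_) α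
      intro x
      have h3 := hκc ⟨x, C.M_le x.2⟩
      rw [hk]
      refine ⟨h3.2.1, h3.2.2.1, ?_⟩
      rw [h3.2.2.2]
      have h4 : C.t (x : Ω) = 0 := x.2.2
      show C.z (x : Ω) + e * C.s (x : Ω) + e' * C.t (x : Ω) = _
      rw [h4]; ring
    · refine side_iff h2 (side_L C h2) (sideData_L D) (sideData_L D₁) hm hmw hm₁ hmw₁ hk hκ (he' k ?_) α
      intro x
      have h3 := hκc ⟨x, C.L_le 0 x.2⟩
      rw [hk]
      refine ⟨h3.1, h3.2.2.1, ?_⟩
      rw [h3.2.2.2]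
      have h4 : C.s (x : Ω) = 0 := by rw [x.2.2, zero_mul]
      show C.z (x : Ω) + e * C.s (x : Ω) + e' * C.t (x : Ω) = _
      rw [h4]; ring
  · -- `|K| = 4`
    push Not at h01
    obtain ⟨c, hc0, hc1⟩ := h01
    have hc3 : c ^ 3 = 1 := hK c hc0
    have hc : 1 + c + c ^ 2 = 0 := by
      have h3 : (c - 1) * (1 + c + c ^ 2) = 0 := by linear_combination hc3
      exact (mul_eq_zero.1 h3).resolve_left (sub_ne_zero.2 hc1)
    obtain ⟨κ, hκN, hκ⟩ := exists_kappa₀ hS hF hF₁ h2 hK D D₁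
    let c' : Kˣ := Units.mk0 c hc0
    have hc'3 : c' ^ 2 * c' = 1 := by
      apply Units.ext
      show c ^ 2 * c = 1
      rw [← hc3]; ring
    obtain ⟨h, hh, hh1, hh2⟩ := D.exS c' c' (by rw [hc'3]; exact Δ.one_mem)
    have hhz : ∀ x : S, (x : Ω) ∈ C.Z1 → h x = x := by
      intro x hx
      obtain ⟨h3, h4⟩ := hh2 x hx
      apply Subtype.ext
      refine eq_of_mem_Z1 C h3 hx ?_
      rw [h4]
      show c ^ 2 * c * C.z x = C.z x
      linear_combination (C.z x) * hc3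
    have hcc : ((c' : Kˣ) : K) = c := rfl
    refine ⟨κ, hκN.1, hκN.2, hκ, fun k hk α => ?_, fun k hk α => ?_⟩
    · refine side_iff h2 (side_M C) (sideData_M D) (sideData_M D₁) hn hsw hn₁ hsw₁ hk hκ ?_ α
      refine swap_eq_of_four hS h2 hF hF₁ (side_M C) hn hsw hn₁ hsw₁ hκN hk hκ hc hh ?_ hhz
      intro x hx
      obtain ⟨h3, h4, h5⟩ := hh1 x
      rw [hcc] at h3 h4 h5
      refine ⟨⟨(h x).2, ?_⟩, h4, ?_⟩
      · rw [h3, hx.2, mul_zero]
      · rw [h5]; ring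
    · refine side_iff h2 (side_L C h2) (sideData_L D) (sideData_L D₁) hm hmw hm₁ hmw₁ hk hκ ?_ α
      refine swap_eq_of_four hS h2 hF hF₁ (side_L C h2) hm hmw hm₁ hmw₁ hκN hk hκ hc hh ?_ hhz
      intro x hx
      obtain ⟨h3, h4, h5⟩ := hh1 x
      rw [hcc] at h3 h4 h5
      have h6 : C.s (x : Ω) = 0 := by rw [hx.2, zero_mul]
      refine ⟨⟨(h x).2, ?_⟩, h3, ?_⟩
      · rw [h4, h6, mul_zero, zero_mul]
      · rw [h5]; ring

end Cfsg.Agent.H18.Kappa
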