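import Cfsg.Agent.H780.TwoDefs
import Cfsg.Agent.H780.SpTwo
import Cfsg.Agent.H783.ChainStab
import Cfsg.Agent.H541.ConjAlign

/-!
# S5260-R3, first part: the automizer of `S` up to a central automorphism (helper18)
-/

set_option autoImplicit false

universe u v

namespace Cfsg.Agent.H18.Kappa

open Cfsg Cfsg.FusionSystem Cfsg.Agent.H802 Cfsg.Agent.H780

variable {Ω : Type u} [Group Ω] {S : Subgroup Ω} {K : Type v} [Field K]

theorem inv_mul_mem_Z1 (C : SpC S K) {x y : Ω} (hx : x ∈ S) (hy : y ∈ S) (ht : C.t x = C.t y)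
    (hs : C.s x = C.s y) (hu : C.u x = C.u y) : x⁻¹ * y ∈ C.Z1 := by
  refine ⟨S.mul_mem (S.inv_mem hx) hy, ?_, ?_, ?_⟩
  · rw [C.t_mul (S.inv_mem hx) hy, C.t_inv hx, ht]; ring
  · rw [C.s_mul (S.inv_mem hx) hy, C.s_inv hx, hs]; ring
  · rw [C.u_mul (S.inv_mem hx) hy, C.u_inv hx, C.t_inv hx, hu, hs]; ring

theorem inv_mul_mem_Z2 (C : SpC S K) {x y : Ω} (hx : x ∈ S) (hy : y ∈ S) (ht : C.t x = C.t y)
    (hs : C.s x = C.s y) : x⁻¹ * y ∈ C.Z2 := by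
  refine ⟨S.mul_mem (S.inv_mem hx) hy, ?_, ?_⟩
  · rw [C.t_mul (S.inv_mem hx) hy, C.t_inv hx, ht]; ring
  · rw [C.s_mul (S.inv_mem hx) hy, C.s_inv hx, hs]; ring

theorem eq_of_mem_Z1 (C : SpC S K) {x y : Ω} (hx : x ∈ C.Z1) (hy : y ∈ C.Z1) (hz : C.z x = C.z y) :
    x = y :=
  C.inj hx.1 hy.1 (hx.2.1.trans hy.2.1.symm) (hx.2.2.1.trans hy.2.2.1.symm)
    (hx.2.2.2.trans hy.2.2.2.symm) hz

/-- `α` acts on the coordinates `t, s, u` by a triangular matrix and on `Z₁` by a scalar. -/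
structure Lin (C : SpC S K) (α : MulAut S) (a b e r₁ r₂ c : K) : Prop where
  t : ∀ x : S, C.t (α x : S) = a * C.t x
  s : ∀ x : S, C.s (α x : S) = b * C.s x
  u : ∀ x : S, C.u (α x : S) = e * C.u x + r₁ * C.t x + r₂ * C.s x
  mem : ∀ x : S, (x : Ω) ∈ C.Z1 → ((α x : S) : Ω) ∈ C.Z1
  z : ∀ x : S, (x : Ω) ∈ C.Z1 → C.z (α x : S) = c * C.z x

theorem Lin.mul {C : SpC S K} {α β : MulAut S} {a b e r₁ r₂ c a' b' e' r₁' r₂' c' : K}
    (h : Lin C α a b e r₁ r₂ c) (h' : Lin C β a' b' e' r₁' r₂' c') :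
    Lin C (α * β) (a * a') (b * b') (e * e') (e * r₁' + r₁ * a') (e * r₂' + r₂ * b') (c * c') where
  t x := by rw [MulAut.mul_apply, h.t, h'.t]; ring
  s x := by rw [MulAut.mul_apply, h.s, h'.s]; ring
  u x := by rw [MulAut.mul_apply, h.u, h'.t, h'.s, h'.u]; ring
  mem x hx := by rw [MulAut.mul_apply]; exact h.mem _ (h'.mem _ hx)
  z x hx := by rw [MulAut.mul_apply, h.z _ (h'.mem _ hx), h'.z _ hx]; ring

/-- Conjugation by an element of `S`. -/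
theorem lin_conj (C : SpC S K) {β : MulAut S} {g : Ω} (hg : g ∈ S)
    (hβ : ∀ x : S, ((β x : S) : Ω) = g * x * g⁻¹) :
    Lin C β 1 1 1 (- C.s g) (C.t g) 1 where
  t x := by rw [hβ, C.t_conj hg x.2]; ring
  s x := by rw [hβ, C.s_conj hg x.2]; ring
  u x := by rw [hβ, C.u_conj hg x.2]; ring
  mem x hx := by
    rw [hβ, ← C.Z1_comm hx hg, mul_inv_cancel_right]
    exact hx
  z x hx := by
    rw [hβ, ← C.Z1_comm hx hg, mul_inv_cancel_right, one_mul]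

/-- The chain `S > Z₂ > Z₁ > 1`. -/
def chn (C : SpC S K) : ℕ → Subgroup S
  | 0 => ⊤
  | 1 => C.Z2.subgroupOf S
  | 2 => C.Z1.subgroupOf S
  | _ => ⊥

theorem chn_anti (C : SpC S K) : ∀ i, chn C (i + 1) ≤ chn C i
  | 0 => le_top
  | 1 => fun _ hx => C.Z1_le_Z2 hx
  | 2 => bot_le
  | _ + 3 => le_rfl

theorem mem_inn_of_lin [Finite S] (hS : IsPGroup 2 S) {F : FusionSystem S} (hF : F.IsSaturated 2)
    (C : SpC S K) (h2 : (2 : K) = 0) {α : MulAut S} (hα : α ∈ F.autGroup S) {r₁ r₂ : K}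
    (h : Lin C α 1 1 1 r₁ r₂ 1) : α ∈ autInducedBy S S := by
  have h3 : chn C 3 = ⊥ := rfl
  have key : ∀ (β : MulAut S) (r₁ r₂ : K), Lin C β 1 1 1 r₁ r₂ 1 →
      ∀ i < 3, ∀ x ∈ chn C i, x⁻¹ * β x ∈ chn C (i + 1) := by
    intro β r₁ r₂ hβ i hi x hx
    interval_cases i
    · show (x : Ω)⁻¹ * (β x : S) ∈ C.Z2
      exact inv_mul_mem_Z2 C x.2 (β x).2 (by rw [hβ.t, one_mul]) (by rw [hβ.s, one_mul])
    · show (x : Ω)⁻¹ * (β x : S) ∈ C.Z1
      have hx' : (x : Ω) ∈ C.Z2 := hx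
      exact inv_mul_mem_Z1 C x.2 (β x).2 (by rw [hβ.t, one_mul]) (by rw [hβ.s, one_mul])
        (by rw [hβ.u, hx'.2.1, hx'.2.2]; ring)
    · show x⁻¹ * β x ∈ (⊥ : Subgroup S)
      have hx' : (x : Ω) ∈ C.Z1 := hx
      have h4 : β x = x := Subtype.ext (eq_of_mem_Z1 C (hβ.mem x hx') hx' (by rw [hβ.z x hx', one_mul]))
      rw [h4, inv_mul_cancel]
      exact Subgroup.one_mem _
  have hSa := isFullyAutomized_of_isFullyNormalized hS hF (isFullyNormalized_top F)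
  have h4 := le_autInducedBy_of_le (K := H780.chainStab (F.autGroup S) 3 (chn C) (chn_anti C) h3) hSa
    (fun x hx => hx.1) (chainStab_isPGroup hS _ 3 _ _ rfl h3) (by
      intro β hβ
      obtain ⟨g, hg, hgβ⟩ := (mem_autInducedBy_iff S S β).1 hβ
      exact H780.mem_chainStab.2 ⟨autInducedBy_le_autGroup F le_rfl hβ,
        key β _ _ (lin_conj C hg hgβ)⟩)
  exact h4 (H780.mem_chainStab.2 ⟨hα, key α _ _ h⟩)

theorem inn_conj (γ : MulAut S) {β : MulAut S} (hβ : β ∈ autInducedBy S S) :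
    γ * β * γ⁻¹ ∈ autInducedBy S S := by
  obtain ⟨a, ha, hau⟩ := (mem_autInducedBy_iff S S _).1 hβ
  refine (mem_autInducedBy_iff S S _).2 ⟨(γ ⟨a, ha⟩ : S), (γ ⟨a, ha⟩).2, fun x => ?_⟩
  have h1 : β (γ⁻¹ x) = ⟨a, ha⟩ * (γ⁻¹ x) * ⟨a, ha⟩⁻¹ := Subtype.ext (hau _)
  show ((γ (β (γ⁻¹ x)) : S) : Ω) = _
  rw [h1, map_mul, map_mul, map_inv]
  have h2 : γ (γ⁻¹ x) = x := γ.apply_symm_apply x
  rw [h2]
  rfl

section data

variable {F F₁ : FusionSystem S} {C : SpC S K} {Δ : Subgroup Kˣ}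

theorem exists_lin (D : TwoData F C Δ) {α : MulAut S} (hα : α ∈ F.autGroup S) :
    ∃ a b : Kˣ, a ^ 2 * b ∈ Δ ∧ ∃ r₁ r₂ : K, Lin C α a b (a * b) r₁ r₂ (a ^ 2 * b) := by
  obtain ⟨a, b, hab, r₁, r₂, h1, h2⟩ := D.autS α hα
  exact ⟨a, b, hab, r₁, r₂, fun x => (h1 x).1, fun x => (h1 x).2.1, fun x => (h1 x).2.2,
    fun x hx => (h2 x hx).1, fun x hx => (h2 x hx).2⟩

theorem pow_three_mem [Finite S] (hS : IsPGroup 2 S) (hF : F.IsSaturated 2)
    (h2 : (2 : K) = 0) (hK : ∀ c : K, c ≠ 0 → c ^ 3 = 1) (D : TwoData F C Δ) {α : MulAut S}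
    (hα : α ∈ F.autGroup S) : α ^ 3 ∈ autInducedBy S S := by
  obtain ⟨a, b, -, r₁, r₂, h⟩ := exists_lin D hα
  have ha : (a : K) ^ 3 = 1 := hK _ a.ne_zero
  have hb : (b : K) ^ 3 = 1 := hK _ b.ne_zero
  have h1 := (h.mul h).mul h
  have e1 : α * α * α = α ^ 3 := by rw [pow_succ, pow_two]
  rw [e1] at h1
  have e2 : (a : K) * a * a = 1 := by rw [← ha]; ring
  have e3 : (b : K) * b * b = 1 := by rw [← hb]; ring
  have e4 : (a : K) * b * (a * b) * (a * b) = 1 := by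
    calc (a : K) * b * (a * b) * (a * b) = (a * a * a) * (b * b * b) := by ring
      _ = 1 := by rw [e2, e3, one_mul]
  have e5 : (a : K) ^ 2 * b * (a ^ 2 * b) * (a ^ 2 * b) = 1 := by
    calc (a : K) ^ 2 * b * (a ^ 2 * b) * (a ^ 2 * b) = (a * a * a) * (a * a * a) * (b * b * b) := by ring
      _ = 1 := by rw [e2, e3]; ring
  rw [e2, e3, e4, e5] at h1
  exact mem_inn_of_lin hS hF C h2 ((F.autGroup S).pow_mem hα 3) h1

theorem exists_relIndex [Finite S] (hS : IsPGroup 2 S) (hF : F.IsSaturated 2)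
    (h2 : (2 : K) = 0) (hK : ∀ c : K, c ≠ 0 → c ^ 3 = 1) (D : TwoData F C Δ) :
    ∃ k, (autInducedBy S S).relIndex (F.autGroup S) = 3 ^ k := by
  have hn : ((autInducedBy S S).subgroupOf (F.autGroup S)).Normal :=
    ⟨fun n hn g => inn_conj (g : MulAut S) hn⟩
  have h3 : IsPGroup 3 (F.autGroup S ⧸ (autInducedBy S S).subgroupOf (F.autGroup S)) := by
    intro x
    obtain ⟨α, rfl⟩ := QuotientGroup.mk_surjective x
    refine ⟨1, ?_⟩
    rw [pow_one, ← QuotientGroup.mk_pow, QuotientGroup.eq_one_iff]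
    exact pow_three_mem hS hF h2 hK D α.2
  have : Fact (Nat.Prime 3) := ⟨Nat.prime_three⟩
  obtain ⟨k, hk⟩ := IsPGroup.iff_card.1 h3
  exact ⟨k, hk⟩

/-- The group of automorphisms trivial on `Z₁` and on `S / Z₁`. -/
abbrev NN (C : SpC S K) : Subgroup (MulAut S) := H783.chainStab (C.Z1.subgroupOf S)

theorem conj_NN (D : TwoData F C Δ) {α n : MulAut S} (hα : α ∈ F.autGroup S) (hn : n ∈ NN C) :
    α * n * α⁻¹ ∈ NN C := by
  refine H783.conj_mem_chainStab (fun x => ?_) hn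
  obtain ⟨a, b, -, r₁, r₂, h⟩ := exists_lin D hα
  obtain ⟨a', b', -, r₁', r₂', h'⟩ := exists_lin D ((F.autGroup S).inv_mem hα)
  constructor
  · intro hx
    exact h.mem x hx
  · intro hx
    have := h'.mem _ hx
    rwa [MulAut.inv_apply_self] at this

theorem exists_align (h2 : (2 : K) = 0) (D : TwoData F C Δ) (D₁ : TwoData F₁ C Δ) {α : MulAut S}
    (hα : α ∈ F.autGroup S) : ∃ n ∈ NN C, n * α ∈ F₁.autGroup S := by
  obtain ⟨a, b, hab, r₁, r₂, h⟩ := exists_lin D hα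
  obtain ⟨β, hβ, h3, h4⟩ := D₁.exS a b hab
  obtain ⟨g, hg, htg, hsg, -, -⟩ := C.surj (r₂ / b) (- (r₁ / a)) 0 0
  obtain ⟨γ, hγ⟩ := exists_conjAut (P := S) (g := g) (Subgroup.le_normalizer hg)
  have h5 := lin_conj C hg hγ
  have h6 : γ ∈ F₁.autGroup S :=
    autInducedBy_le_autGroup F₁ le_rfl ((mem_autInducedBy_iff S S γ).2 ⟨g, hg, hγ⟩)
  have hl : Lin C β a b (a * b) 0 0 (a ^ 2 * b) :=
    ⟨fun x => (h3 x).1, fun x => (h3 x).2.1, fun x => by rw [(h3 x).2.2]; ring,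
      fun x hx => (h4 x hx).1, fun x hx => (h4 x hx).2⟩
  have hl' := h5.mul hl
  have ha : (a : K) ≠ 0 := a.ne_zero
  have hb : (b : K) ≠ 0 := b.ne_zero
  have hagree : ∀ x : S, ((α x : S) : Ω)⁻¹ * ((γ * β) x : S) ∈ C.Z1 := by
    intro x
    refine inv_mul_mem_Z1 C (α x).2 ((γ * β) x).2 ?_ ?_ ?_
    · rw [h.t, hl'.t]; ring
    · rw [h.s, hl'.s]; ring
    · rw [h.u, hl'.u, htg, hsg]
      field_simp
      ring
  refine ⟨γ * β * α⁻¹, ?_, ?_⟩
  · rw [H783.mem_chainStab]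
    constructor
    · intro x hx
      obtain ⟨a', b', -, r₁', r₂', h'⟩ := exists_lin D ((F.autGroup S).inv_mem hα)
      have h7 := h'.mem x hx
      have h8 := h.z _ h7
      have h9 := hl'.z _ h7
      have h10 := hl'.mem _ h7
      rw [MulAut.apply_inv_self] at h8
      show (γ * β) (α⁻¹ x) = x
      apply Subtype.ext
      refine eq_of_mem_Z1 C h10 hx ?_
      rw [h9, h8]; ring
    · intro x
      have := hagree (α⁻¹ x)
      rw [MulAut.apply_inv_self] at this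
      exact this
  · rw [inv_mul_cancel_right]
    exact (F₁.autGroup S).mul_mem h6 hβ

/-- The automizers of `S` are conjugate under an automorphism trivial on `Z₁` and `S / Z₁`. -/
theorem exists_kappa₀ [Finite S] (hS : IsPGroup 2 S) (hF : F.IsSaturated 2) (hF₁ : F₁.IsSaturated 2)
    (h2 : (2 : K) = 0) (hK : ∀ c : K, c ≠ 0 → c ^ 3 = 1) (D : TwoData F C Δ) (D₁ : TwoData F₁ C Δ) :
    ∃ κ ∈ NN C, ∀ α : MulAut S, α ∈ F.autGroup S ↔ κ * α * κ⁻¹ ∈ F₁.autGroup S := by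
  have : Fact (Nat.Prime 2) := ⟨Nat.prime_two⟩
  have : Fact (Nat.Prime 3) := ⟨Nat.prime_three⟩
  obtain ⟨κ, hκ, h⟩ := H541.ConjAlign.exists_conj_align (p := 2) (r := 3) (by norm_num) (NN C)
    (autInducedBy S S) (F.autGroup S) (F₁.autGroup S)
    (H783.isPGroup_chainStab hS _) (isPGroup_autInducedBy hS S)
    (fun a ha n hn => conj_NN D ha hn) (fun a ha n hn => conj_NN D₁ ha hn)
    (fun n _ i hi => inn_conj n hi) (autInducedBy_le_autGroup F le_rfl)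
    (autInducedBy_le_autGroup F₁ le_rfl) (exists_relIndex hS hF h2 hK D)
    (exists_relIndex hS hF₁ h2 hK D₁) (fun a ha => exists_align h2 D D₁ ha)
    (fun a ha => exists_align h2 D₁ D ha)
  refine ⟨κ, hκ, fun α => ?_⟩
  rw [← h]
  constructor
  · intro hα
    exact ⟨α, hα, rfl⟩
  · rintro ⟨β, hβ, h3⟩
    have h4 : κ * β * κ⁻¹ = κ * α * κ⁻¹ := h3
    have h5 : β = α := mul_left_cancel (mul_right_cancel h4)
    rw [← h5]
    exact hβ

end data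

end Cfsg.Agent.H18.Kappa
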