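import Cfsg.Agent.H18.KappaA

/-!
# S5260-R3, second part: the automizers of `M` and `L₀` (helper18)
-/

set_option autoImplicit false

universe u v

namespace Cfsg.Agent.H18.Kappa

open Cfsg Cfsg.FusionSystem Cfsg.Agent.H802 Cfsg.Agent.H780

variable {Ω : Type u} [Group Ω] {S : Subgroup Ω} {K : Type v} [Field K]

/-- `P` is `M` (with `v = s`) or `L₀` (with `v = t`). -/
structure Side (C : SpC S K) (P : Subgroup Ω) (v : Ω → K) : Prop where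
  le : P ≤ S
  Z2_le : C.Z2 ≤ P
  v_mul : ∀ {x y}, x ∈ P → y ∈ P → v (x * y) = v x + v y
  u_mul : ∀ {x y}, x ∈ P → y ∈ P → C.u (x * y) = C.u x + C.u y
  z_mul : ∀ {x y}, x ∈ P → y ∈ P → C.z (x * y) = C.z x + C.z y
  inj : ∀ {x y}, x ∈ P → y ∈ P → v x = v y → C.u x = C.u y → C.z x = C.z y → x = y
  surj : ∀ a b c : K, ∃ x ∈ P, v x = a ∧ C.u x = b ∧ C.z x = c
  mem_Z1 : ∀ {x}, x ∈ P → (x ∈ C.Z1 ↔ v x = 0 ∧ C.u x = 0)
  mem_Z2 : ∀ {x}, x ∈ P → (x ∈ C.Z2 ↔ v x = 0)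
  exg : ∀ r : K, ∃ g ∈ S, ∀ x ∈ P, v (g * x * g⁻¹) = v x ∧ C.u (g * x * g⁻¹) = C.u x + r * v x
  con : ∀ g ∈ S, ∃ r : K, (∀ x ∈ P, v (g * x * g⁻¹) = v x ∧ C.u (g * x * g⁻¹) = C.u x + r * v x) ∧
    (r = 0 → ∀ x ∈ P, g * x * g⁻¹ = x)

theorem side_M (C : SpC S K) : Side C C.M C.s where
  le := C.M_le
  Z2_le := C.Z2_le_M
  v_mul hx hy := C.s_mul hx.1 hy.1
  u_mul hx hy := by rw [C.u_mul hx.1 hy.1, hx.2]; ring
  z_mul hx hy := by rw [C.z_mul hx.1 hy.1, hx.2]; ring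
  inj hx hy h1 h2 h3 := C.inj hx.1 hy.1 (hx.2.trans hy.2.symm) h1 h2 h3
  surj a b c := by
    obtain ⟨x, hx, h1, h2, h3, h4⟩ := C.surj 0 a b c
    exact ⟨x, ⟨hx, h1⟩, h2, h3, h4⟩
  mem_Z1 hx := ⟨fun h => ⟨h.2.2.1, h.2.2.2⟩, fun h => ⟨hx.1, hx.2, h.1, h.2⟩⟩
  mem_Z2 hx := ⟨fun h => h.2.2, fun h => ⟨hx.1, hx.2, h⟩⟩
  exg r := by
    obtain ⟨g, hg, h1, h2, -, -⟩ := C.surj r 0 0 0
    refine ⟨g, hg, fun x hx => ⟨C.s_conj hg hx.1, ?_⟩⟩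
    rw [C.u_conj hg hx.1, h1, hx.2]; ring
  con g hg := by
    refine ⟨C.t g, fun x hx => ⟨C.s_conj hg hx.1, ?_⟩, fun h x hx => ?_⟩
    · rw [C.u_conj hg hx.1, hx.2]; ring
    · apply C.inj (S.mul_mem (S.mul_mem hg hx.1) (S.inv_mem hg)) hx.1 (C.t_conj hg hx.1)
        (C.s_conj hg hx.1)
      · rw [C.u_conj hg hx.1, hx.2, h]; ring
      · rw [C.z_conj hg hx.1, hx.2, h]; ring

theorem side_L (C : SpC S K) (h2 : (2 : K) = 0) : Side C (C.L 0) C.t where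
  le := C.L_le 0
  Z2_le := C.Z2_le_L 0
  v_mul hx hy := C.t_mul hx.1 hy.1
  u_mul {x y} hx hy := by
    have h3 : C.s y = 0 := by rw [hy.2, zero_mul]
    rw [C.u_mul hx.1 hy.1, h3]; ring
  z_mul {x y} hx hy := by
    have h3 : C.s y = 0 := by rw [hy.2, zero_mul]
    rw [C.z_mul hx.1 hy.1, h3, h2]; ring
  inj {x y} hx hy h1 h3 h4 := by
    have h5 : C.s x = 0 := by rw [hx.2, zero_mul]
    have h6 : C.s y = 0 := by rw [hy.2, zero_mul]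
    exact C.inj hx.1 hy.1 h1 (h5.trans h6.symm) h3 h4
  surj a b c := by
    obtain ⟨x, hx, h1, h2, h3, h4⟩ := C.surj a 0 b c
    exact ⟨x, ⟨hx, by rw [h2, zero_mul]⟩, h1, h3, h4⟩
  mem_Z1 {x} hx := ⟨fun h => ⟨h.2.1, h.2.2.2⟩, fun h => ⟨hx.1, h.1, by rw [hx.2, zero_mul], h.2⟩⟩
  mem_Z2 {x} hx := ⟨fun h => h.2.1, fun h => ⟨hx.1, h, by rw [hx.2, zero_mul]⟩⟩
  exg r := by
    obtain ⟨g, hg, h1, h3, -, -⟩ := C.surj 0 (-r) 0 0
    refine ⟨g, hg, fun x hx => ⟨C.t_conj hg hx.1, ?_⟩⟩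
    rw [C.u_conj hg hx.1, h1, h3]; ring
  con g hg := by
    refine ⟨- C.s g, fun x hx => ⟨C.t_conj hg hx.1, ?_⟩, fun h x hx => ?_⟩
    · have h3 : C.s x = 0 := by rw [hx.2, zero_mul]
      rw [C.u_conj hg hx.1, h3]; ring
    · have h3 : C.s x = 0 := by rw [hx.2, zero_mul]
      have h4 : C.s g = 0 := neg_eq_zero.1 h
      apply C.inj (S.mul_mem (S.mul_mem hg hx.1) (S.inv_mem hg)) hx.1 (C.t_conj hg hx.1)
        (C.s_conj hg hx.1)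
      · rw [C.u_conj hg hx.1, h3, h4]; ring
      · rw [C.z_conj hg hx.1, h3, h4, h2]; ring

/-- The part of `TwoData` concerning `P = M` or `L₀`. -/
structure SideData (F : FusionSystem S) (C : SpC S K) (P : Subgroup Ω) (v : Ω → K) : Prop where
  Z1 : ∀ α ∈ F.autGroup P, ∀ x : P, (x : Ω) ∈ C.Z1 → ((α x : P) : Ω) ∈ C.Z1
  spread : ∀ α ∈ F.autGroup P, (∀ x : P, (x : Ω) ∈ C.Z2 → ((α x : P) : Ω) ∈ C.Z2) ∨
    ∃ r : K, ∀ x : P, (x : Ω) ∈ C.Z2 → C.u (α x : P) = r * v (α x : P)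
  ext : ∀ α ∈ F.autGroup P, (∀ x : P, (x : Ω) ∈ C.Z2 → ((α x : P) : Ω) ∈ C.Z2) →
    ∃ β ∈ F.autGroup S, ∀ (x : Ω) (hx : x ∈ P) (hx' : x ∈ S), ((β ⟨x, hx'⟩ : S) : Ω) = (α ⟨x, hx⟩ : P)

/-- The swapping automorphism. -/
structure IsSwap (C : SpC S K) (P : Subgroup Ω) (v : Ω → K) (n : MulAut P) : Prop where
  triv : ∀ x : P, (x : Ω) ∈ C.Z1 → n x = x
  vv : ∀ x : P, v (n x : P) = C.u x
  uu : ∀ x : P, C.u (n x : P) = v x

theorem sideData_M {F : FusionSystem S} {C : SpC S K} {Δ : Subgroup Kˣ} (D : TwoData F C Δ) :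
    SideData F C C.M C.s := ⟨D.Z1M, D.spreadM, D.extM⟩

theorem sideData_L {F : FusionSystem S} {C : SpC S K} {Δ : Subgroup Kˣ} (D : TwoData F C Δ) :
    SideData F C (C.L 0) C.t := ⟨D.Z1L, D.spreadL, D.extL⟩

theorem exists_swap_M {F : FusionSystem S} {C : SpC S K} {Δ : Subgroup Kˣ} (D : TwoData F C Δ) :
    ∃ n ∈ F.autGroup C.M, IsSwap C C.M C.s n := by
  obtain ⟨n, hn, h1, h2⟩ := D.nM
  exact ⟨n, hn, h1, fun x => (h2 x).1, fun x => (h2 x).2⟩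

theorem exists_swap_L {F : FusionSystem S} {C : SpC S K} {Δ : Subgroup Kˣ} (D : TwoData F C Δ) :
    ∃ n ∈ F.autGroup (C.L 0), IsSwap C (C.L 0) C.t n := by
  obtain ⟨n, hn, h1, h2⟩ := D.nL
  exact ⟨n, hn, h1, fun x => (h2 x).1, fun x => (h2 x).2⟩

section side

variable {F F₁ : FusionSystem S} {C : SpC S K} {P : Subgroup Ω} {v : Ω → K}

theorem Side.norm (hP : Side C P v) {g : Ω} (hg : g ∈ S) : g ∈ Subgroup.normalizer (P : Set Ω) := by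
  rw [Subgroup.mem_normalizer_iff]
  intro x
  constructor
  · exact fun hx => C.conj_mem_of_Z2_le hP.le hP.Z2_le hg hx
  · intro hx
    have := C.conj_mem_of_Z2_le hP.le hP.Z2_le (S.inv_mem hg) hx
    have h1 : g⁻¹ * (g * x * g⁻¹) * g⁻¹⁻¹ = x := by group
    rwa [h1] at this

theorem Side.fully [Finite S] (hP : Side C P v) (F : FusionSystem S) : F.IsFullyNormalized P := by
  refine ⟨hP.le, fun Q hQ => ?_⟩
  have h1 : normalizerIn S Q ≤ S := inf_le_left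
  have h2 : normalizerIn S P = S := le_antisymm inf_le_left (le_inf le_rfl fun g hg => hP.norm hg)
  rw [h2]
  exact Subgroup.card_le_of_le h1

/-- An element of `Aut_F(P)` trivial on `Z₁` and `P / Z₁` is trivial. -/
theorem eq_one_of_chain [Finite S] (hS : IsPGroup 2 S) (hF : F.IsSaturated 2) (hP : Side C P v)
    {ω : MulAut P} (hω : ω ∈ F.autGroup P) (h1 : ∀ x : P, (x : Ω) ∈ C.Z1 → ω x = x)
    (hv : ∀ x : P, v (ω x : P) = v x) (hu : ∀ x : P, C.u (ω x : P) = C.u x) : ω = 1 := by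
  have : Fact (Nat.Prime 2) := ⟨Nat.prime_two⟩
  have h3 : ω ∈ autInducedBy S P := by
    refine H783.chainStab_inf_le hS hF (hP.fully F) (R := C.Z1.subgroupOf P) ?_ ⟨⟨?_, ?_⟩, hω⟩
    · intro β hβ x hx
      obtain ⟨g, hg, hgβ⟩ := (mem_autInducedBy_iff S P β).1 hβ
      show ((β x : P) : Ω) ∈ C.Z1
      have hx' : (x : Ω) ∈ C.Z1 := hx
      rw [hgβ, ← C.Z1_comm hx' hg, mul_inv_cancel_right]
      exact hx'
    · intro x hx
      exact h1 x hx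
    · intro x
      show (x : Ω)⁻¹ * (ω x : P) ∈ C.Z1
      have h4 : (x : Ω)⁻¹ * (ω x : P) ∈ P := P.mul_mem (P.inv_mem x.2) (ω x).2
      rw [hP.mem_Z1 h4]
      have h5 : (x : Ω) * ((x : Ω)⁻¹ * (ω x : P)) = (ω x : P) := mul_inv_cancel_left _ _
      constructor
      · have := hP.v_mul x.2 h4
        rw [h5, hv] at this
        linear_combination -this
      · have := hP.u_mul x.2 h4
        rw [h5, hu] at this
        linear_combination -this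
  obtain ⟨g, hg, hgω⟩ := (mem_autInducedBy_iff S P ω).1 h3
  obtain ⟨r, hr, hr0⟩ := hP.con g hg
  have h6 : r = 0 := by
    obtain ⟨x, hx, hx1, -, -⟩ := hP.surj 1 0 0
    have h7 := (hr x hx).2
    have h8 := hu ⟨x, hx⟩
    rw [hgω] at h8
    rw [h8, hx1] at h7
    linear_combination -h7
  ext x
  rw [hgω, hr0 h6 x x.2]
  rfl

/-- One inclusion. -/
theorem side_le [Finite S] (h2 : (2 : K) = 0) (hP : Side C P v) (hD : SideData F C P v) {n : MulAut P}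
    (hn : n ∈ F.autGroup P) (hsw : IsSwap C P v n) {κ : MulAut S} {k : MulAut P}
    (hk : ∀ x : P, ((k x : P) : Ω) = (κ ⟨x, hP.le x.2⟩ : S))
    (hκ : ∀ α : MulAut S, α ∈ F.autGroup S → κ * α * κ⁻¹ ∈ F₁.autGroup S)
    (hkn : k * n * k⁻¹ ∈ F₁.autGroup P) {α : MulAut P} (hα : α ∈ F.autGroup P) :
    k * α * k⁻¹ ∈ F₁.autGroup P := by
  have hk' : ∀ x : P, ((k⁻¹ x : P) : Ω) = (κ⁻¹ ⟨x, hP.le x.2⟩ : S) := by
    intro x
    have h3 := hk (k⁻¹ x)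
    rw [MulAut.apply_inv_self] at h3
    have h4 : (⟨x, hP.le x.2⟩ : S) = κ ⟨(k⁻¹ x : P), hP.le (k⁻¹ x).2⟩ := Subtype.ext h3
    rw [h4, MulAut.inv_apply_self]
  -- automorphisms which preserve `Z₂`
  have key : ∀ α ∈ F.autGroup P, (∀ x : P, (x : Ω) ∈ C.Z2 → ((α x : P) : Ω) ∈ C.Z2) →
      k * α * k⁻¹ ∈ F₁.autGroup P := by
    intro α hα hz
    obtain ⟨β, hβ, hβα⟩ := hD.ext α hα hz
    rw [mem_autGroup_iff F₁ hP.le]
    refine aut_restrict_mem le_rfl (hκ β hβ) hP.le ?_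
    intro x hx
    show ((k (α (k⁻¹ ⟨x, hx⟩)) : P) : Ω) = (κ (β (κ⁻¹ ⟨x, hP.le hx⟩)) : S)
    rw [hk]
    congr 2
    apply Subtype.ext
    show ((α (k⁻¹ ⟨x, hx⟩) : P) : Ω) = (β (κ⁻¹ ⟨x, hP.le hx⟩) : S)
    rw [← hβα ((k⁻¹ ⟨x, hx⟩ : P) : Ω) (k⁻¹ ⟨x, hx⟩).2 (hP.le (k⁻¹ ⟨x, hx⟩).2)]
    congr 2
    apply Subtype.ext
    exact hk' ⟨x, hx⟩
  rcases hD.spread α hα with h3 | ⟨r, hr⟩
  · exact key α hα h3
  obtain ⟨g, hg, hgr⟩ := hP.exg r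
  obtain ⟨θ, hθ⟩ := exists_conjAut (hP.norm hg)
  have hθF : θ ∈ F.autGroup P :=
    autInducedBy_le_autGroup F hP.le ((mem_autInducedBy_iff S P θ).2 ⟨g, hg, hθ⟩)
  have h4 : n * θ * α ∈ F.autGroup P := mul_mem (mul_mem hn hθF) hα
  have h5 := key _ h4 (by
    intro x hx
    show ((n (θ (α x)) : P) : Ω) ∈ C.Z2
    rw [hP.mem_Z2 (n (θ (α x))).2, hsw.vv, hθ, (hgr _ (α x).2).2, hr x hx]
    linear_combination (r * v (α x : P)) * h2)
  have h6 : k * θ * k⁻¹ ∈ F₁.autGroup P := by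
    refine autInducedBy_le_autGroup F₁ hP.le ((mem_autInducedBy_iff S P _).2
      ⟨(κ ⟨g, hg⟩ : S), (κ ⟨g, hg⟩).2, fun x => ?_⟩)
    show ((k (θ (k⁻¹ x)) : P) : Ω) = _
    rw [hk]
    have h7 : (⟨(θ (k⁻¹ x) : P), hP.le (θ (k⁻¹ x)).2⟩ : S) = ⟨g, hg⟩ * (κ⁻¹ ⟨x, hP.le x.2⟩) * ⟨g, hg⟩⁻¹ := by
      apply Subtype.ext
      show ((θ (k⁻¹ x) : P) : Ω) = g * (κ⁻¹ ⟨x, hP.le x.2⟩ : S) * g⁻¹
      rw [hθ, hk']
    rw [h7, map_mul, map_mul, map_inv, MulAut.apply_inv_self]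
    rfl
  have h8 : k * α * k⁻¹ = (k * θ * k⁻¹)⁻¹ * (k * n * k⁻¹)⁻¹ * (k * (n * θ * α) * k⁻¹) := by group
  rw [h8]
  exact mul_mem (mul_mem (inv_mem h6) (inv_mem hkn)) h5

/-- The automizers of `P` correspond once the swaps do. -/
theorem side_iff [Finite S] (h2 : (2 : K) = 0) (hP : Side C P v) (hD : SideData F C P v)
    (hD₁ : SideData F₁ C P v) {n n₁ : MulAut P}
    (hn : n ∈ F.autGroup P) (hsw : IsSwap C P v n) (hn₁ : n₁ ∈ F₁.autGroup P) (hsw₁ : IsSwap C P v n₁)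
    {κ : MulAut S} {k : MulAut P} (hk : ∀ x : P, ((k x : P) : Ω) = (κ ⟨x, hP.le x.2⟩ : S))
    (hκ : ∀ α : MulAut S, α ∈ F.autGroup S ↔ κ * α * κ⁻¹ ∈ F₁.autGroup S)
    (hkn : k * n * k⁻¹ = n₁) (α : MulAut P) : α ∈ F.autGroup P ↔ k * α * k⁻¹ ∈ F₁.autGroup P := by
  constructor
  · intro hα
    exact side_le h2 hP hD hn hsw hk (fun α hα => (hκ α).1 hα) (hkn ▸ hn₁) hα
  · intro hα
    have hk' : ∀ x : P, ((k⁻¹ x : P) : Ω) = (κ⁻¹ ⟨x, hP.le x.2⟩ : S) := by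
      intro x
      have h3 := hk (k⁻¹ x)
      rw [MulAut.apply_inv_self] at h3
      have h4 : (⟨x, hP.le x.2⟩ : S) = κ ⟨(k⁻¹ x : P), hP.le (k⁻¹ x).2⟩ := Subtype.ext h3
      rw [h4, MulAut.inv_apply_self]
    have h3 := side_le (F := F₁) (F₁ := F) (κ := κ⁻¹) (k := k⁻¹) h2 hP hD₁ hn₁ hsw₁ hk'
      (fun α hα => by
        rw [hκ]
        have h4 : κ * (κ⁻¹ * α * κ⁻¹⁻¹) * κ⁻¹ = α := by group
        rw [h4]
        exact hα)
      (by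
        have h4 : k⁻¹ * n₁ * k⁻¹⁻¹ = n := by rw [← hkn]; group
        rw [h4]
        exact hn) hα
    have h4 : k⁻¹ * (k * α * k⁻¹) * k⁻¹⁻¹ = α := by group
    rwa [h4] at h3

/-- Swaps correspond, `|K| = 4`. -/
theorem swap_eq_of_four [Finite S] (hS : IsPGroup 2 S) (h2 : (2 : K) = 0) (hF : F.IsSaturated 2)
    (hF₁ : F₁.IsSaturated 2) (hP : Side C P v) {n n₁ : MulAut P}
    (hn : n ∈ F.autGroup P) (hsw : IsSwap C P v n) (hn₁ : n₁ ∈ F₁.autGroup P) (hsw₁ : IsSwap C P v n₁)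
    {κ : MulAut S} (hκN : κ ∈ NN C) {k : MulAut P}
    (hk : ∀ x : P, ((k x : P) : Ω) = (κ ⟨x, hP.le x.2⟩ : S))
    (hκ : ∀ α : MulAut S, α ∈ F.autGroup S ↔ κ * α * κ⁻¹ ∈ F₁.autGroup S)
    {c : K} (hc : 1 + c + c ^ 2 = 0) {h : MulAut S} (hh : h ∈ F.autGroup S)
    (hhv : ∀ x : S, (x : Ω) ∈ P → ((h x : S) : Ω) ∈ P ∧ v (h x : S) = c * v x ∧
      C.u (h x : S) = c ^ 2 * C.u x) (hhz : ∀ x : S, (x : Ω) ∈ C.Z1 → h x = x) :
    k * n * k⁻¹ = n₁ := by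
  have hc3 : c * c ^ 2 = 1 := by linear_combination (c - 1) * hc
  have hc4 : c ^ 2 * c ^ 2 = c := by linear_combination c * (c - 1) * hc
  have hfin : Finite P := finite_of_le hP.le
  -- restriction of `h`
  have hinj : Function.Injective (fun x : P => (⟨(h ⟨x, hP.le x.2⟩ : S), (hhv ⟨x, hP.le x.2⟩ x.2).1⟩ : P)) := by
    intro x y hxy
    have h3 := congrArg Subtype.val hxy
    have h4 : h ⟨x, hP.le x.2⟩ = h ⟨y, hP.le y.2⟩ := Subtype.ext h3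
    have h5 := h.injective h4
    exact Subtype.ext (congrArg (fun w : S => (w : Ω)) h5)
  let hp : MulAut P := MulEquiv.ofBijective
    (MonoidHom.mk' (fun x : P => (⟨(h ⟨x, hP.le x.2⟩ : S), (hhv ⟨x, hP.le x.2⟩ x.2).1⟩ : P)) (by
      intro x y
      apply Subtype.ext
      show ((h (⟨x, hP.le x.2⟩ * ⟨y, hP.le y.2⟩) : S) : Ω) = _
      rw [map_mul]
      rfl))
    ⟨hinj, Finite.surjective_of_injective hinj⟩
  have hpa : ∀ x : P, ((hp x : P) : Ω) = (h ⟨x, hP.le x.2⟩ : S) := fun x => rfl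
  have hpv : ∀ x : P, v (hp x : P) = c * v x := fun x => (hhv ⟨x, hP.le x.2⟩ x.2).2.1
  have hpu : ∀ x : P, C.u (hp x : P) = c ^ 2 * C.u x := fun x => (hhv ⟨x, hP.le x.2⟩ x.2).2.2
  have hpz : ∀ x : P, (x : Ω) ∈ C.Z1 → hp x = x := by
    intro x hx
    apply Subtype.ext
    rw [hpa, hhz _ hx]
  have hpF : hp ∈ F.autGroup P := by
    rw [mem_autGroup_iff F hP.le]
    exact aut_restrict_mem le_rfl hh hP.le (fun x hx => rfl)
  -- `k`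
  have hkz : ∀ x : P, (x : Ω) ∈ C.Z1 → k x = x := by
    intro x hx
    apply Subtype.ext
    rw [hk, hκN.1 ⟨x, hP.le x.2⟩ hx]
  have hkz1 : ∀ x : P, (x : Ω)⁻¹ * (k x : P) ∈ C.Z1 := by
    intro x
    rw [hk]
    exact hκN.2 ⟨x, hP.le x.2⟩
  have hcoord : ∀ x y : P, (x : Ω)⁻¹ * (y : P) ∈ C.Z1 → v y = v x ∧ C.u y = C.u x := by
    intro x y hxy
    have h4 : (x : Ω)⁻¹ * (y : P) ∈ P := P.mul_mem (P.inv_mem x.2) y.2
    have h5 : (x : Ω) * ((x : Ω)⁻¹ * (y : P)) = y := mul_inv_cancel_left _ _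
    have h6 := (hP.mem_Z1 h4).1 hxy
    have h7 := hP.v_mul x.2 h4
    have h8 := hP.u_mul x.2 h4
    rw [h5, h6.1, add_zero] at h7
    rw [h5, h6.2, add_zero] at h8
    exact ⟨h7, h8⟩
  have hkv : ∀ x : P, v (k x : P) = v x := fun x => (hcoord x (k x) (hkz1 x)).1
  have hku : ∀ x : P, C.u (k x : P) = C.u x := fun x => (hcoord x (k x) (hkz1 x)).2
  have hinvz : ∀ {γ : MulAut P}, (∀ x : P, (x : Ω) ∈ C.Z1 → γ x = x) →
      ∀ x : P, (x : Ω) ∈ C.Z1 → γ⁻¹ x = x := by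
    intro γ hγ x hx
    have h3 := hγ x hx
    rw [MulAut.inv_apply]
    exact (MulEquiv.symm_apply_eq γ).2 h3.symm
  have hkv' : ∀ x : P, v (k⁻¹ x : P) = v x := by
    intro x
    rw [← hkv (k⁻¹ x), MulAut.apply_inv_self]
  have hku' : ∀ x : P, C.u (k⁻¹ x : P) = C.u x := by
    intro x
    rw [← hku (k⁻¹ x), MulAut.apply_inv_self]
  have hnv' : ∀ {m : MulAut P}, IsSwap C P v m → ∀ x : P, v (m⁻¹ x : P) = C.u x := by
    intro m hm x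
    rw [← hm.uu (m⁻¹ x), MulAut.apply_inv_self]
  have hnu' : ∀ {m : MulAut P}, IsSwap C P v m → ∀ x : P, C.u (m⁻¹ x : P) = v x := by
    intro m hm x
    rw [← hm.vv (m⁻¹ x), MulAut.apply_inv_self]
  have h1n : n * hp * n⁻¹ * hp = 1 := by
    refine eq_one_of_chain hS hF hP (mul_mem (mul_mem (mul_mem hn hpF) (inv_mem hn)) hpF) ?_ ?_ ?_
    · intro x hx
      show n (hp (n⁻¹ (hp x))) = x
      rw [hpz x hx, hinvz hsw.triv x hx, hpz x hx, hsw.triv x hx]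
    · intro x
      show v (n (hp (n⁻¹ (hp x))) : P) = v x
      rw [hsw.vv, hpu, hnu' hsw, hpv]
      linear_combination (v x) * hc3
    · intro x
      show C.u (n (hp (n⁻¹ (hp x))) : P) = C.u x
      rw [hsw.uu, hpv, hnv' hsw, hpu]
      linear_combination (C.u x) * hc3
  -- the same for `n₁`
  set hp₁ : MulAut P := k * hp * k⁻¹ with hhp₁
  have hk' : ∀ x : P, ((k⁻¹ x : P) : Ω) = (κ⁻¹ ⟨x, hP.le x.2⟩ : S) := by
    intro x
    have h3 := hk (k⁻¹ x)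
    rw [MulAut.apply_inv_self] at h3
    have h4 : (⟨x, hP.le x.2⟩ : S) = κ ⟨(k⁻¹ x : P), hP.le (k⁻¹ x).2⟩ := Subtype.ext h3
    rw [h4, MulAut.inv_apply_self]
  have hp₁F : hp₁ ∈ F₁.autGroup P := by
    rw [mem_autGroup_iff F₁ hP.le]
    refine aut_restrict_mem le_rfl ((hκ h).1 hh) hP.le ?_
    intro x hx
    show ((k (hp (k⁻¹ ⟨x, hx⟩)) : P) : Ω) = (κ (h (κ⁻¹ ⟨x, hP.le hx⟩)) : S)
    rw [hk]
    congr 2
    apply Subtype.ext
    show ((hp (k⁻¹ ⟨x, hx⟩) : P) : Ω) = (h (κ⁻¹ ⟨x, hP.le hx⟩) : S)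
    rw [hpa]
    congr 2
    apply Subtype.ext
    exact hk' ⟨x, hx⟩
  have hp₁v : ∀ x : P, v (hp₁ x : P) = c * v x := by
    intro x
    show v (k (hp (k⁻¹ x)) : P) = _
    rw [hkv, hpv, hkv']
  have hp₁u : ∀ x : P, C.u (hp₁ x : P) = c ^ 2 * C.u x := by
    intro x
    show C.u (k (hp (k⁻¹ x)) : P) = _
    rw [hku, hpu, hku']
  have hp₁z : ∀ x : P, (x : Ω) ∈ C.Z1 → hp₁ x = x := by
    intro x hx
    show k (hp (k⁻¹ x)) = x
    rw [hinvz hkz x hx, hpz x hx, hkz x hx]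
  have h1n₁ : n₁ * hp₁ * n₁⁻¹ * hp₁ = 1 := by
    refine eq_one_of_chain hS hF₁ hP (mul_mem (mul_mem (mul_mem hn₁ hp₁F) (inv_mem hn₁)) hp₁F) ?_ ?_ ?_
    · intro x hx
      show n₁ (hp₁ (n₁⁻¹ (hp₁ x))) = x
      rw [hp₁z x hx, hinvz hsw₁.triv x hx, hp₁z x hx, hsw₁.triv x hx]
    · intro x
      show v (n₁ (hp₁ (n₁⁻¹ (hp₁ x))) : P) = v x
      rw [hsw₁.vv, hp₁u, hnu' hsw₁, hp₁v]
      linear_combination (v x) * hc3
    · intro x
      show C.u (n₁ (hp₁ (n₁⁻¹ (hp₁ x))) : P) = C.u x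
      rw [hsw₁.uu, hp₁v, hnv' hsw₁, hp₁u]
      linear_combination (C.u x) * hc3
  -- `μ = n⁻¹ k⁻¹ n₁ k` commutes with `hp`
  set μ : MulAut P := n⁻¹ * (k⁻¹ * n₁ * k) with hμ
  have hcomm : μ * hp = hp * μ := by
    have h5 : k⁻¹ * n₁ * k * hp * (k⁻¹ * n₁ * k)⁻¹ = hp⁻¹ := by
      have h6 : k⁻¹ * (n₁ * hp₁ * n₁⁻¹ * hp₁) * k = 1 := by rw [h1n₁]; group
      rw [hhp₁] at h6
      have h7 : k⁻¹ * n₁ * k * hp * (k⁻¹ * n₁ * k)⁻¹ * hp = 1 := by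
        rw [← h6]; group
      exact eq_inv_of_mul_eq_one_left h7
    have h8 : n * hp * n⁻¹ = hp⁻¹ := eq_inv_of_mul_eq_one_left h1n
    have h9 : n⁻¹ * hp⁻¹ * n = hp := by rw [← h8]; group
    have h10 : μ * hp * μ⁻¹ = hp := by
      have h11 : μ * hp * μ⁻¹ = n⁻¹ * (k⁻¹ * n₁ * k * hp * (k⁻¹ * n₁ * k)⁻¹) * n := by
        rw [hμ]; group
      rw [h11, h5, h9]
    calc μ * hp = μ * hp * μ⁻¹ * μ := by group
      _ = hp * μ := by rw [h10]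
  have hμz : ∀ x : P, (x : Ω) ∈ C.Z1 → μ x = x := by
    intro x hx
    show n⁻¹ (k⁻¹ (n₁ (k x))) = x
    rw [hkz x hx, hsw₁.triv x hx, hinvz hkz x hx, hinvz hsw.triv x hx]
  have hμv : ∀ x : P, v (μ x : P) = v x := by
    intro x
    show v (n⁻¹ (k⁻¹ (n₁ (k x))) : P) = _
    rw [hnv' hsw, hku', hsw₁.uu, hkv]
  have hμu : ∀ x : P, C.u (μ x : P) = C.u x := by
    intro x
    show C.u (n⁻¹ (k⁻¹ (n₁ (k x))) : P) = _
    rw [hnu' hsw, hkv', hsw₁.vv, hku]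
  -- `δ x = z (μ x) - z x`
  have hδ : ∀ x y : P, C.z (μ (x * y) : P) - C.z ((x * y : P) : Ω) =
      (C.z (μ x : P) - C.z x) + (C.z (μ y : P) - C.z y) := by
    intro x y
    rw [map_mul]
    have e1 : C.z (((μ x * μ y : P) : P) : Ω) = C.z (μ x : P) + C.z (μ y : P) :=
      hP.z_mul (μ x).2 (μ y).2
    have e2 : C.z ((x * y : P) : Ω) = C.z x + C.z y := hP.z_mul x.2 y.2
    rw [e1, e2]; ring
  have hδh : ∀ x : P, C.z (μ (hp x) : P) - C.z (hp x : P) = C.z (μ x : P) - C.z x := by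
    intro x
    have h5 : μ (hp x) = hp (μ x) := by
      have := congrArg (fun γ : MulAut P => γ x) hcomm
      exact this
    rw [h5]
    -- `μ x = x * w` with `w ∈ Z₁`
    have h6 : (x : Ω)⁻¹ * (μ x : P) ∈ P := P.mul_mem (P.inv_mem x.2) (μ x).2
    set w : P := ⟨_, h6⟩ with hw
    have h7 : x * w = μ x := Subtype.ext (mul_inv_cancel_left _ _)
    have h8 : (w : Ω) ∈ C.Z1 := by
      rw [hP.mem_Z1 w.2]
      have h9 := hP.v_mul x.2 w.2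
      have h10 := hP.u_mul x.2 w.2
      have h11 : (x : Ω) * (w : P) = (μ x : P) := congrArg Subtype.val h7
      rw [h11, hμv] at h9
      rw [h11, hμu] at h10
      exact ⟨by linear_combination -h9, by linear_combination -h10⟩
    rw [← h7, map_mul, hpz w h8]
    have e1 : C.z ((hp x * w : P) : Ω) = C.z (hp x : P) + C.z w := hP.z_mul (hp x).2 w.2
    have e2 : C.z ((x * w : P) : Ω) = C.z x + C.z w := hP.z_mul x.2 w.2
    rw [e1, e2]; ring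
  have hδ0 : ∀ x : P, C.z (μ x : P) = C.z x := by
    intro x
    have h5 : ((x * hp x * hp (hp x) : P) : Ω) ∈ C.Z1 := by
      rw [hP.mem_Z1 (x * hp x * hp (hp x)).2]
      have e1 := hP.v_mul (x * hp x).2 (hp (hp x)).2
      have e2 := hP.v_mul x.2 (hp x).2
      have e3 := hP.u_mul (x * hp x).2 (hp (hp x)).2
      have e4 := hP.u_mul x.2 (hp x).2
      constructor
      · show v (((x * hp x : P) : Ω) * (hp (hp x) : P)) = 0
        rw [e1]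
        show v ((x : Ω) * (hp x : P)) + _ = 0
        rw [e2, hpv, hpv, hpv]
        linear_combination (v x) * hc
      · show C.u (((x * hp x : P) : Ω) * (hp (hp x) : P)) = 0
        rw [e3]
        show C.u ((x : Ω) * (hp x : P)) + _ = 0
        rw [e4, hpu, hpu, hpu]
        linear_combination (C.u x) * hc + (C.u x) * hc4
    have h6 := hμz _ h5
    have h7 := hδ (x * hp x) (hp (hp x))
    have h8 := hδ x (hp x)
    rw [h6, sub_self, h8, hδh (hp x), hδh x] at h7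
    have h9 : C.z (μ x : P) - C.z x = 0 := by
      linear_combination -h7 - (C.z (μ x : P) - C.z x) * h2
    exact sub_eq_zero.1 h9
  have hμ1 : μ = 1 := by
    ext x
    exact hP.inj (μ x).2 x.2 (hμv x) (hμu x) (hδ0 x)
  have h12 : k⁻¹ * n₁ * k = n := by
    rw [hμ] at hμ1
    exact (inv_mul_eq_one.1 hμ1).symm
  rw [← h12]
  group

end side

end Cfsg.Agent.H18.Kappa
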