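import Cfsg.Agent.OddOrderLocal.FrobAct
import Cfsg.Agent.ClassicalGeometry.TwoFamilies

/-!
# A `p`-group of exponent `p` and class two with a Frobenius group of operators

`core`: `D` is a finite `p`-group of exponent `p` (`p` odd) and class two, `K` a `p'`-group of operators
which is trivial on `D'` and without fixed points on `D / D'`, `R` a group of order `p` which acts without
fixed points on `K` and acts compatibly on `D`.  Then `|C_D(R)| > p`.
-/

set_option autoImplicit false

namespace Cfsg.Agent.H18.OmegaCore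

open Cfsg.Agent.OddOrderLocal.FrobAct
open Module
open scoped commutatorElement

/-- restriction of an action to an invariant subgroup -/
def restr {A M : Type*} [Group A] [Group M] (α : A →* MulAut M) (H : Subgroup M)
    (h : ∀ a, ∀ x ∈ H, α a x ∈ H) : A →* MulAut H where
  toFun a :=
    { toFun := fun x => ⟨α a x, h a x x.2⟩
      invFun := fun x => ⟨α a⁻¹ x, h a⁻¹ x x.2⟩
      left_inv := fun x => by
        apply Subtype.ext
        show α a⁻¹ (α a (x : M)) = x
        rw [← MulAut.mul_apply, ← map_mul]; simp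
      right_inv := fun x => by
        apply Subtype.ext
        show α a (α a⁻¹ (x : M)) = x
        rw [← MulAut.mul_apply, ← map_mul]; simp
      map_mul' := fun x y => by
        apply Subtype.ext
        show α a ((x * y : H) : M) = α a x * α a y
        simp }
  map_one' := by
    ext x
    show α 1 (x : M) = x
    simp
  map_mul' := fun a b => by
    ext x
    show α (a * b) (x : M) = α a (α b x)
    simp

theorem restr_apply {A M : Type*} [Group A] [Group M] (α : A →* MulAut M) (H : Subgroup M)
    (h : ∀ a, ∀ x ∈ H, α a x ∈ H) (a : A) (x : H) : ((restr α H h a x : H) : M) = α a x := rfl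

/-- The number of fixed points of an automorphism on a quotient is at most the number of its fixed
points. -/
theorem card_fixed_quot_le {D : Type*} [Group D] [Finite D] (N : Subgroup D) [N.Normal] (φ : MulAut D)
    (ψ : D ⧸ N → D ⧸ N) (hψ : ∀ x : D, ψ (x : D ⧸ N) = ((φ x : D) : D ⧸ N)) :
    Nat.card {y : D ⧸ N // ψ y = y} ≤ Nat.card {x : D // φ x = x} := by
  classical
  -- elements `x` with `x⁻¹ φ(x) ∈ N`
  let H := {x : D // x⁻¹ * φ x ∈ N}
  have h1 : Nat.card ({y : D ⧸ N // ψ y = y} × N) ≤ Nat.card H := by
    let g : {y : D ⧸ N // ψ y = y} × N → H := fun yn =>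
      ⟨(Quotient.out yn.1.1 : D) * yn.2, by
        have e1 : ((Quotient.out yn.1.1 * (yn.2 : D) : D) : D ⧸ N) = yn.1.1 := by
          rw [QuotientGroup.mk_mul_of_mem _ yn.2.2]
          exact QuotientGroup.out_eq' yn.1.1
        have e2 : ((φ (Quotient.out yn.1.1 * (yn.2 : D)) : D) : D ⧸ N) =
            ((Quotient.out yn.1.1 * (yn.2 : D) : D) : D ⧸ N) := by
          rw [← hψ, e1]; exact yn.1.2
        exact QuotientGroup.eq.mp e2.symm⟩
    apply Nat.card_le_card_of_injective g
    rintro ⟨⟨y, hy⟩, n⟩ ⟨⟨y', hy'⟩, n'⟩ h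
    have h' : (Quotient.out y : D) * n = (Quotient.out y' : D) * n' := congrArg Subtype.val h
    have e1 : ((Quotient.out y * (n : D) : D) : D ⧸ N) = y := by
      rw [QuotientGroup.mk_mul_of_mem _ n.2]
      exact QuotientGroup.out_eq' y
    have e2 : ((Quotient.out y' * (n' : D) : D) : D ⧸ N) = y' := by
      rw [QuotientGroup.mk_mul_of_mem _ n'.2]
      exact QuotientGroup.out_eq' y'
    have e3 : y = y' := by rw [← e1, ← e2, h']
    subst e3
    have e4 : n = n' := Subtype.ext (mul_left_cancel h')
    rw [e4]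
  have h2 : Nat.card H ≤ Nat.card (N × {x : D // φ x = x}) := by
    let s : N → D := fun n => if h : ∃ x : D, x⁻¹ * φ x = n then h.choose else 1
    have hs : ∀ n : N, (∃ x : D, x⁻¹ * φ x = n) → (s n)⁻¹ * φ (s n) = n := by
      intro n h
      have : s n = h.choose := dif_pos h
      rw [this]; exact h.choose_spec
    let f : H → N × {x : D // φ x = x} := fun x =>
      (⟨x.1⁻¹ * φ x.1, x.2⟩, ⟨x.1 * (s ⟨x.1⁻¹ * φ x.1, x.2⟩)⁻¹, by
        have e := hs ⟨x.1⁻¹ * φ x.1, x.2⟩ ⟨x.1, rfl⟩
        set t := s ⟨x.1⁻¹ * φ x.1, x.2⟩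
        have e' : t⁻¹ * φ t = x.1⁻¹ * φ x.1 := e
        have e2 : φ t = t * (x.1⁻¹ * φ x.1) := by rw [← e']; group
        rw [map_mul, map_inv, e2]; group⟩)
    apply Nat.card_le_card_of_injective f
    rintro ⟨x, hx⟩ ⟨x', hx'⟩ h
    have h1 : x⁻¹ * φ x = x'⁻¹ * φ x' := congrArg (fun z => ((z.1 : N) : D)) h
    have h2 : x * (s ⟨x⁻¹ * φ x, hx⟩)⁻¹ = x' * (s ⟨x'⁻¹ * φ x', hx'⟩)⁻¹ :=
      congrArg (fun z => (z.2 : D)) h
    have h3 : (⟨x⁻¹ * φ x, hx⟩ : N) = ⟨x'⁻¹ * φ x', hx'⟩ := Subtype.ext h1
    rw [h3] at h2
    exact Subtype.ext (mul_right_cancel h2)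
  have h3 := h1.trans h2
  rw [Nat.card_prod, Nat.card_prod, mul_comm] at h3
  exact Nat.le_of_mul_le_mul_left h3 Nat.card_pos

/-- A `p`-group acting on a nontrivial finite `p`-group has a nontrivial fixed point. -/
theorem exists_fixed_ne_one {R N : Type*} [Group R] [Group N] [Finite N] {p : ℕ} [Fact p.Prime]
    (hR : IsPGroup p R) (hN : IsPGroup p N) [Nontrivial N] (β : R →* MulAut N) :
    ∃ z : N, z ≠ 1 ∧ ∀ r, β r z = z := by
  let act : MulAction R N := MulAction.compHom N β
  have hact : ∀ (r : R) (x : N), r • x = β r x := fun r x => rfl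
  have hdvd : p ∣ Nat.card N := by
    obtain ⟨n, hn⟩ := IsPGroup.iff_card.1 hN
    rcases Nat.eq_zero_or_pos n with h0 | h0
    · rw [h0, pow_zero] at hn
      have := Finite.one_lt_card (α := N)
      omega
    · rw [hn]; exact dvd_pow_self p h0.ne'
  obtain ⟨b, hb, hb1⟩ := hR.exists_fixed_point_of_prime_dvd_card_of_fixed_point N hdvd
    (a := 1) (fun r => by rw [hact, map_one])
  exact ⟨b, hb1.symm, fun r => hb r⟩

section Form

variable {D : Type*} [Group D] {p : ℕ} [Fact p.Prime]

/-- The value of the form. -/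
def cval (lam : Additive (commutator D) →+ ZMod p) (x y : D) : ZMod p :=
  lam (Additive.ofMul ⟨⁅x, y⁆, Subgroup.commutator_mem_commutator (Subgroup.mem_top x) (Subgroup.mem_top y)⟩)

theorem cval_mul_left (lam : Additive (commutator D) →+ ZMod p) (hcl : commutator D ≤ Subgroup.center D)
    (x x' y : D) : cval lam (x * x') y = cval lam x y + cval lam x' y := by
  have hc : ∀ a b z : D, ⁅a, b⁆ * z = z * ⁅a, b⁆ := fun a b z =>
    ((Subgroup.mem_center_iff.mp (hcl (Subgroup.commutator_mem_commutator (Subgroup.mem_top a)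
      (Subgroup.mem_top b)))) z).symm
  unfold cval
  rw [← map_add, ← ofMul_mul]
  congr 2
  apply Subtype.ext
  show ⁅x * x', y⁆ = ⁅x, y⁆ * ⁅x', y⁆
  calc ⁅x * x', y⁆ = x * ⁅x', y⁆ * x⁻¹ * ⁅x, y⁆ := by
        simp only [commutatorElement_def]; group
    _ = ⁅x', y⁆ * ⁅x, y⁆ := by rw [← hc x' y x]; group
    _ = ⁅x, y⁆ * ⁅x', y⁆ := by rw [hc]

theorem cval_mul_right (lam : Additive (commutator D) →+ ZMod p) (hcl : commutator D ≤ Subgroup.center D)
    (x y y' : D) : cval lam x (y * y') = cval lam x y + cval lam x y' := by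
  have hc : ∀ a b z : D, ⁅a, b⁆ * z = z * ⁅a, b⁆ := fun a b z =>
    ((Subgroup.mem_center_iff.mp (hcl (Subgroup.commutator_mem_commutator (Subgroup.mem_top a)
      (Subgroup.mem_top b)))) z).symm
  unfold cval
  rw [← map_add, ← ofMul_mul]
  congr 2
  apply Subtype.ext
  show ⁅x, y * y'⁆ = ⁅x, y⁆ * ⁅x, y'⁆
  calc ⁅x, y * y'⁆ = ⁅x, y⁆ * (y * ⁅x, y'⁆ * y⁻¹) := by
        simp only [commutatorElement_def]; group
    _ = ⁅x, y⁆ * ⁅x, y'⁆ := by rw [← hc x y' y]; group

theorem cval_self (lam : Additive (commutator D) →+ ZMod p) (x : D) : cval lam x x = 0 := by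
  unfold cval
  have : (⟨⁅x, x⁆, Subgroup.commutator_mem_commutator (Subgroup.mem_top x) (Subgroup.mem_top x)⟩ :
      commutator D) = 1 := Subtype.ext (commutatorElement_self x)
  rw [this]; exact map_zero lam

theorem cval_comm_left (lam : Additive (commutator D) →+ ZMod p) (hcl : commutator D ≤ Subgroup.center D)
    (x y : D) (hx : x ∈ commutator D) : cval lam x y = 0 := by
  unfold cval
  have : (⟨⁅x, y⁆, Subgroup.commutator_mem_commutator (Subgroup.mem_top x) (Subgroup.mem_top y)⟩ :
      commutator D) = 1 := Subtype.ext (by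
    rw [Subgroup.coe_one, commutatorElement_eq_one_iff_mul_comm]
    exact (Subgroup.mem_center_iff.mp (hcl hx) y).symm)
  rw [this]; exact map_zero lam

theorem cval_comm_right (lam : Additive (commutator D) →+ ZMod p) (hcl : commutator D ≤ Subgroup.center D)
    (x y : D) (hy : y ∈ commutator D) : cval lam x y = 0 := by
  unfold cval
  have : (⟨⁅x, y⁆, Subgroup.commutator_mem_commutator (Subgroup.mem_top x) (Subgroup.mem_top y)⟩ :
      commutator D) = 1 := Subtype.ext (by
    rw [Subgroup.coe_one, commutatorElement_eq_one_iff_mul_comm]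
    exact Subgroup.mem_center_iff.mp (hcl hy) x)
  rw [this]; exact map_zero lam

/-- The form on `D / D'`, as a homomorphism with values in homomorphisms. -/
def formHom (lam : Additive (commutator D) →+ ZMod p) (hcl : commutator D ≤ Subgroup.center D) :
    (D ⧸ commutator D) →* ((D ⧸ commutator D) →* Multiplicative (ZMod p)) :=
  QuotientGroup.lift (commutator D)
    { toFun := fun x => QuotientGroup.lift (commutator D)
        { toFun := fun y => Multiplicative.ofAdd (cval lam x y)
          map_one' := by
            rw [cval_comm_right lam hcl x 1 (Subgroup.one_mem _)]; rfl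
          map_mul' := fun y y' => by rw [cval_mul_right lam hcl]; rfl }
        (fun y hy => by
          show Multiplicative.ofAdd (cval lam x y) = 1
          rw [cval_comm_right lam hcl x y hy]; rfl)
      map_one' := by
        ext y
        show Multiplicative.toAdd (Multiplicative.ofAdd (cval lam 1 y)) = 0
        rw [cval_comm_left lam hcl 1 y (Subgroup.one_mem _)]; rfl
      map_mul' := fun x x' => by
        ext y
        show Multiplicative.toAdd (Multiplicative.ofAdd (cval lam (x * x') y)) = cval lam x y + cval lam x' y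
        rw [cval_mul_left lam hcl]; rfl }
    (fun x hx => by
      ext y
      show Multiplicative.toAdd (Multiplicative.ofAdd (cval lam x y)) = 0
      rw [cval_comm_left lam hcl x y hx]; rfl)

theorem formHom_apply (lam : Additive (commutator D) →+ ZMod p) (hcl : commutator D ≤ Subgroup.center D)
    (x y : D) : formHom lam hcl (x : D ⧸ commutator D) (y : D ⧸ commutator D) =
      Multiplicative.ofAdd (cval lam x y) := rfl

end Form

/-- A nonzero functional on an elementary abelian `p`-group, invariant under a group of order `p`. -/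
theorem exists_lam {N R : Type*} [CommGroup N] [Finite N] [Nontrivial N] {p : ℕ} [hpf : Fact p.Prime]
    (hexp : ∀ x : N, x ^ p = 1) [Group R] (hR : Nat.card R = p) (β : R →* MulAut N) :
    ∃ lam : Additive N →+ ZMod p, lam ≠ 0 ∧ ∀ r z, lam (Additive.ofMul (β r z)) = lam (Additive.ofMul z) := by
  have instM : Module (ZMod p) (Additive N) := AddCommGroup.zmodModule (n := p) (by
    intro x
    exact congrArg Additive.ofMul (hexp x.toMul))
  have hfinR : Finite R := Nat.finite_of_card_ne_zero (by rw [hR]; exact hpf.out.ne_zero)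
  have hRp : IsPGroup p R := IsPGroup.of_card (n := 1) (by rw [hR, pow_one])
  have hNp : IsPGroup p N := fun x => ⟨1, by rw [pow_one]; exact hexp x⟩
  have hRnt : Nontrivial R := by
    rw [← Finite.one_lt_card_iff_nontrivial, hR]; exact hpf.out.one_lt
  obtain ⟨r₀, hr₀⟩ := exists_ne (1 : R)
  have hgen : Subgroup.zpowers r₀ = ⊤ := zpowers_eq_top_of_prime_card hR hr₀
  obtain ⟨z, hz1, hz⟩ := exists_fixed_ne_one hRp hNp β
  let δ : Additive N →ₗ[ZMod p] Additive N :=
    (MonoidHom.toAdditive (β r₀).toMonoidHom).toZModLinearMap p - LinearMap.id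
  have hδ : ∀ x : N, δ (Additive.ofMul x) = Additive.ofMul (β r₀ x) - Additive.ofMul x := fun x => rfl
  have hninj : ¬ Function.Injective δ := by
    intro hinj
    apply hz1
    have h1 : δ (Additive.ofMul z) = δ 0 := by
      rw [hδ, hz, sub_self, map_zero]
    exact congrArg Additive.toMul (hinj h1)
  have hnsurj : ¬ Function.Surjective δ := by
    intro hs
    exact hninj (Finite.injective_iff_surjective.mpr hs)
  have hlt : LinearMap.range δ < ⊤ := by
    rw [lt_top_iff_ne_top]
    intro h
    exact hnsurj (LinearMap.range_eq_top.mp h)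
  obtain ⟨f, hf, hle⟩ := Submodule.exists_le_ker_of_lt_top _ hlt
  refine ⟨f.toAddMonoidHom, ?_, ?_⟩
  · intro h
    apply hf
    ext x
    exact DFunLike.congr_fun h x
  · have h1 : ∀ z : N, f (Additive.ofMul (β r₀ z)) = f (Additive.ofMul z) := by
      intro z
      have h2 : δ (Additive.ofMul z) ∈ LinearMap.ker f := hle ⟨_, rfl⟩
      rw [LinearMap.mem_ker, hδ, map_sub, sub_eq_zero] at h2
      exact h2
    let S : Subgroup R :=
      { carrier := {r | ∀ z : N, f (Additive.ofMul (β r z)) = f (Additive.ofMul z)}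
        one_mem' := fun z => by simp
        mul_mem' := fun {r s} hr hs z => by
          rw [map_mul, MulAut.mul_apply, hr, hs]
        inv_mem' := fun {r} hr z => by
          have := hr (β r⁻¹ z)
          rw [← MulAut.mul_apply, ← map_mul, mul_inv_cancel, map_one, MulAut.one_apply] at this
          exact this.symm }
    have hS : S = ⊤ := by
      rw [eq_top_iff, ← hgen, Subgroup.zpowers_le]
      exact h1
    intro r
    have : r ∈ S := by rw [hS]; trivial
    exact this

theorem core {D K R : Type*} [Group D] [Finite D] [Group K] [Finite K] [Group R] [Finite R] {p : ℕ}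
    [hpf : Fact p.Prime] (hp : p ≠ 2)
    (hexp : ∀ d : D, d ^ p = 1) (hcl : commutator D ≤ Subgroup.center D) (hR : Nat.card R = p)
    (α : K →* MulAut D) (β : R →* MulAut D) (σ : R →* MulAut K)
    (hcompat : ∀ r k v, β r (α k v) = α (σ r k) (β r v))
    (hK : ¬ p ∣ Nat.card K) (hσ : ∀ r : R, r ≠ 1 → ∀ k, σ r k = k → k = 1)
    (hfixβ : Nat.card (fixedPts β) ≤ p)
    (hD' : ∀ k, ∀ x ∈ commutator D, α k x = x)
    (hgen : ∀ x : D, (∀ k, x⁻¹ * α k x ∈ commutator D) → x ∈ commutator D)
    (hne : commutator D ≠ ⊥) : False := by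
  classical
  have hDp : IsPGroup p D := fun x => ⟨1, by rw [pow_one]; exact hexp x⟩
  -- the functional
  let cN : CommGroup (commutator D) := { (inferInstance : Group (commutator D)) with
    mul_comm := fun x y => Subtype.ext (Subgroup.mem_center_iff.mp (hcl y.2) x) }
  have hNnt : Nontrivial (commutator D) := (Subgroup.nontrivial_iff_ne_bot _).2 hne
  obtain ⟨lam, hlam0, hlam⟩ := exists_lam (N := commutator D) (p := p)
    (fun x => Subtype.ext (by simpa using hexp x)) hR ((MulAut.characteristic (commutator D)).comp β)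
  -- the quotient
  let W := D ⧸ commutator D
  let cW : CommGroup W := { (inferInstance : Group W) with
    mul_comm := fun x y => by
      obtain ⟨x, rfl⟩ := QuotientGroup.mk_surjective x
      obtain ⟨y, rfl⟩ := QuotientGroup.mk_surjective y
      show ((x * y : D) : W) = ((y * x : D) : W)
      rw [QuotientGroup.eq]
      have : (x * y)⁻¹ * (y * x) = ⁅y⁻¹, x⁻¹⁆ := by rw [commutatorElement_def]; group
      rw [this]
      exact Subgroup.commutator_mem_commutator (Subgroup.mem_top _) (Subgroup.mem_top _) }
  let αW : K →* MulAut W := (quotAut (commutator D)).comp α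
  let βW : R →* MulAut W := (quotAut (commutator D)).comp β
  have hαW : ∀ k (x : D), αW k (x : W) = ((α k x : D) : W) := fun k x => rfl
  have hβW : ∀ r (x : D), βW r (x : W) = ((β r x : D) : W) := fun k x => rfl
  have hWexp : ∀ v : W, v ^ p = 1 := by
    intro v
    obtain ⟨x, rfl⟩ := QuotientGroup.mk_surjective v
    show ((x ^ p : D) : W) = 1
    rw [hexp x]; rfl
  have hWcompat : ∀ r k v, βW r (αW k v) = αW (σ r k) (βW r v) := by
    intro r k v
    obtain ⟨x, rfl⟩ := QuotientGroup.mk_surjective v
    rw [hαW, hβW, hβW, hαW, hcompat]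
  have hWfix : ∀ v : W, (∀ k, αW k v = v) → v = 1 := by
    intro v hv
    obtain ⟨x, rfl⟩ := QuotientGroup.mk_surjective v
    rw [QuotientGroup.eq_one_iff]
    apply hgen
    intro k
    have := hv k
    rw [hαW] at this
    exact QuotientGroup.eq.mp this.symm
  have hW1 := (card_eq_of_elementary p hWexp hK αW βW σ hWcompat hWfix hσ).1
  have hWp : IsPGroup p W := fun x => ⟨1, by rw [pow_one]; exact hWexp x⟩
  -- fixed points of `R` on `W`
  have hRnt : Nontrivial R := by
    rw [← Finite.one_lt_card_iff_nontrivial, hR]; exact hpf.out.one_lt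
  obtain ⟨r₀, hr₀⟩ := exists_ne (1 : R)
  have hRgen : Subgroup.zpowers r₀ = ⊤ := zpowers_eq_top_of_prime_card hR hr₀
  have hfixr : ∀ {M : Type _} [Group M] (γ : R →* MulAut M) (x : M), γ r₀ x = x → ∀ r, γ r x = x := by
    intro M _ γ x hx r
    let S : Subgroup R :=
      { carrier := {r | γ r x = x}
        one_mem' := by simp
        mul_mem' := fun {r s} hr hs => by
          show γ (r * s) x = x
          rw [map_mul, MulAut.mul_apply, hs, hr]
        inv_mem' := fun {r} hr => by
          show γ r⁻¹ x = x
          have hr' : γ r x = x := hr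
          rw [← hr', ← MulAut.mul_apply, ← map_mul]; simp [hr'] }
    have hS : S = ⊤ := by
      rw [eq_top_iff, ← hRgen, Subgroup.zpowers_le]
      exact hx
    have : r ∈ S := by rw [hS]; trivial
    exact this
  have hcW : Nat.card (fixedPts βW) ≤ p := by
    have h1 := card_fixed_quot_le (commutator D) (β r₀) (βW r₀) (fun x => hβW r₀ x)
    have h2 : Nat.card {x : D // β r₀ x = x} ≤ Nat.card (fixedPts β) :=
      Nat.card_le_card_of_injective (fun x => ⟨x.1, fun r => hfixr β x.1 x.2 r⟩)
        (fun x y h => Subtype.ext (congrArg (fun z : fixedPts β => (z : D)) h))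
    have h3 : Nat.card (fixedPts βW) ≤ Nat.card {y : D ⧸ commutator D // βW r₀ y = y} :=
      Nat.card_le_card_of_injective (fun x => ⟨x.1, x.2 r₀⟩)
        (fun x y h => Subtype.ext (congrArg (fun z => (z.1 : W)) h))
    exact h3.trans (h1.trans (h2.trans hfixβ))
  have hpow : ∀ {M : Type _} [Group M] [Finite M], IsPGroup p M → Nat.card M ≤ p →
      Nat.card M = 1 ∨ Nat.card M = p := by
    intro M _ _ hM hle
    obtain ⟨n, hn⟩ := IsPGroup.iff_card.1 hM
    rcases Nat.lt_or_ge n 1 with h | h
    · left; rw [hn, Nat.lt_one_iff.mp h, pow_zero]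
    · right
      apply le_antisymm hle
      rw [hn]
      exact Nat.le_self_pow (by omega) p
  have hWnt : Nat.card W ≠ 1 := by
    intro h
    have htop : commutator D = ⊤ := Subgroup.index_eq_one.mp h
    have : Group.IsNilpotent D := hDp.isNilpotent
    have hDnt : Nontrivial D := by
      by_contra hs
      rw [not_nontrivial_iff_subsingleton] at hs
      exact hne (Subsingleton.elim _ _)
    exact (Group.IsSolvable.commutator_lt_top_of_nontrivial D).ne htop
  have hfW : Nat.card (fixedPts βW) = p := by
    rcases hpow (hWp.to_subgroup (fixedPts βW)) hcW with h | h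
    · rw [h, one_pow] at hW1; exact absurd hW1 hWnt
    · exact h
  rw [hfW, hR] at hW1
  -- the form
  let F : W →* (W →* Multiplicative (ZMod p)) := formHom lam hcl
  have hF : ∀ x y : D, F (x : W) (y : W) = Multiplicative.ofAdd (cval lam x y) := fun x y => rfl
  have hcα : ∀ k (x y : D), cval lam (α k x) (α k y) = cval lam x y := by
    intro k x y
    unfold cval
    congr 2
    apply Subtype.ext
    show ⁅α k x, α k y⁆ = ⁅x, y⁆
    rw [← map_commutatorElement]
    exact hD' k _ (Subgroup.commutator_mem_commutator (Subgroup.mem_top _) (Subgroup.mem_top _))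
  have hcβ : ∀ r (x y : D), cval lam (β r x) (β r y) = cval lam x y := by
    intro r x y
    unfold cval
    refine Eq.trans ?_ (hlam r _)
    congr 2
    apply Subtype.ext
    show ⁅β r x, β r y⁆ = β r ⁅x, y⁆
    rw [map_commutatorElement]
  have hFα : ∀ k (v w : W), F (αW k v) (αW k w) = F v w := by
    intro k v w
    obtain ⟨x, rfl⟩ := QuotientGroup.mk_surjective v
    obtain ⟨y, rfl⟩ := QuotientGroup.mk_surjective w
    rw [hαW, hαW, hF, hF, hcα]
  have hFβ : ∀ r (v w : W), F (βW r v) (βW r w) = F v w := by
    intro k v w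
    obtain ⟨x, rfl⟩ := QuotientGroup.mk_surjective v
    obtain ⟨y, rfl⟩ := QuotientGroup.mk_surjective w
    rw [hβW, hβW, hF, hF, hcβ]
  -- the radical
  let Rad : Subgroup W := F.ker
  have hRadmem : ∀ v : W, v ∈ Rad ↔ ∀ w, F v w = 1 := by
    intro v
    rw [MonoidHom.mem_ker]
    constructor
    · intro h w; rw [h]; rfl
    · intro h; exact MonoidHom.ext fun w => h w
  have hRα : ∀ k, ∀ v ∈ Rad, αW k v ∈ Rad := by
    intro k v hv
    rw [hRadmem] at hv ⊢
    intro w
    have : w = αW k (αW k⁻¹ w) := by rw [← MulAut.mul_apply, ← map_mul]; simp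
    rw [this, hFα, hv]
  have hRβ : ∀ k, ∀ v ∈ Rad, βW k v ∈ Rad := by
    intro k v hv
    rw [hRadmem] at hv ⊢
    intro w
    have : w = βW k (βW k⁻¹ w) := by rw [← MulAut.mul_apply, ← map_mul]; simp
    rw [this, hFβ, hv]
  have hRad1 := (card_eq_of_elementary (V := Rad) p (fun v => Subtype.ext (by simpa using hWexp v)) hK
    (restr αW Rad hRα) (restr βW Rad hRβ) σ
    (fun r k v => Subtype.ext (hWcompat r k v))
    (fun v hv => Subtype.ext (hWfix v (fun k => congrArg Subtype.val (hv k)))) hσ).1
  have hfRle : Nat.card (fixedPts (restr βW Rad hRβ)) ≤ p := by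
    refine le_trans ?_ hcW
    exact Nat.card_le_card_of_injective
      (fun x : fixedPts (restr βW Rad hRβ) => (⟨x.1.1, fun r => congrArg Subtype.val (x.2 r)⟩ : fixedPts βW))
      (fun x y h => Subtype.ext (Subtype.ext (congrArg (fun z : fixedPts βW => (z : W)) h)))
  rw [hR] at hRad1
  have hRadtop : Rad ≠ ⊤ := by
    intro htop
    apply hlam0
    have h1 : ∀ x y : D, cval lam x y = 0 := by
      intro x y
      have h2 : (x : W) ∈ Rad := by rw [htop]; trivial
      have h3 := (hRadmem _).mp h2 (y : W)
      rw [hF] at h3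
      exact Multiplicative.ofAdd.injective h3
    -- `lam` vanishes on the commutators
    have h2 : ∀ z : D, ∀ hz : z ∈ commutator D, lam (Additive.ofMul ⟨z, hz⟩) = 0 := by
      intro z hz
      have hz' : z ∈ Subgroup.closure {g : D | ∃ g₁ ∈ (⊤ : Subgroup D), ∃ g₂ ∈ (⊤ : Subgroup D), ⁅g₁, g₂⁆ = g} := hz
      induction hz' using Subgroup.closure_induction with
      | mem x hx =>
        obtain ⟨g₁, -, g₂, -, rfl⟩ := hx
        exact h1 g₁ g₂
      | one => exact map_zero lam
      | mul x y hx hy ihx ihy =>
        have := map_add lam (Additive.ofMul (⟨x, hx⟩ : commutator D)) (Additive.ofMul (⟨y, hy⟩ : commutator D))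
        rw [ihx hx, ihy hy, add_zero] at this
        exact this
      | inv x hx ihx =>
        have := map_neg lam (Additive.ofMul (⟨x, hx⟩ : commutator D))
        rw [ihx hx, neg_zero] at this
        exact this
    apply AddMonoidHom.ext
    intro z
    exact h2 z.toMul.1 z.toMul.2
  have hRadbot : Rad = ⊥ := by
    rcases hpow ((hWp.to_subgroup Rad).to_subgroup (fixedPts (restr βW Rad hRβ))) hfRle with h | h
    · rw [h, one_pow] at hRad1
      exact Subgroup.card_eq_one.mp hRad1
    · exfalso
      apply hRadtop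
      apply Subgroup.eq_top_of_card_eq
      rw [hRad1, h, hW1]
  -- the bilinear form over `ZMod p`
  have instM : Module (ZMod p) (Additive W) := AddCommGroup.zmodModule (n := p) (by
    intro x
    exact congrArg Additive.ofMul (hWexp x.toMul))
  let B : LinearMap.BilinForm (ZMod p) (Additive W) :=
    AddMonoidHom.toZModLinearMap p
      { toFun := fun x => AddMonoidHom.toZModLinearMap p
          { toFun := fun y => Multiplicative.toAdd (F x.toMul y.toMul)
            map_zero' := by
              show Multiplicative.toAdd (F x.toMul 1) = 0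
              rw [map_one]; rfl
            map_add' := fun y y' => by
              show Multiplicative.toAdd (F x.toMul (y.toMul * y'.toMul)) = _
              rw [map_mul]; rfl }
        map_zero' := by
          ext y
          show Multiplicative.toAdd (F 1 y.toMul) = 0
          rw [map_one]; rfl
        map_add' := fun x x' => by
          ext y
          show Multiplicative.toAdd (F (x.toMul * x'.toMul) y.toMul) = _
          rw [map_mul]; rfl }
  have hB : ∀ x y : Additive W, B x y = Multiplicative.toAdd (F x.toMul y.toMul) := fun x y => rfl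
  have hAlt : B.IsAlt := by
    intro x
    obtain ⟨d, hd⟩ := QuotientGroup.mk_surjective x.toMul
    rw [hB, ← hd, hF, cval_self]; rfl
  obtain ⟨m, hm⟩ := Cfsg.Agent.ClassicalGeometry.TwoFamilies.exists_finrank_eq_ker_add B hAlt
  have hker : LinearMap.ker B = ⊥ := by
    rw [eq_bot_iff]
    intro x hx
    have h1 : x.toMul ∈ Rad := by
      rw [hRadmem]
      intro w
      have h2 : B x (Additive.ofMul w) = 0 := by
        rw [LinearMap.mem_ker] at hx; rw [hx]; rfl
      rw [hB] at h2
      exact Multiplicative.toAdd.injective h2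
    rw [hRadbot, Subgroup.mem_bot] at h1
    exact congrArg Additive.ofMul h1
  rw [hker, finrank_bot, zero_add] at hm
  have hcardV : Nat.card W = p ^ finrank (ZMod p) (Additive W) := by
    have := Module.natCard_eq_pow_finrank (K := ZMod p) (V := Additive W)
    rw [Nat.card_zmod] at this
    exact this
  have h2 : finrank (ZMod p) (Additive W) = p := by
    have h3 : p ^ finrank (ZMod p) (Additive W) = p ^ p := by rw [← hcardV]; exact hW1
    exact Nat.pow_right_injective hpf.out.two_le h3
  rw [h2] at hm
  exact hp (hpf.out.eq_two_or_odd'.resolve_right (by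
    rw [Nat.not_odd_iff_even]; exact ⟨m, hm⟩))

end Cfsg.Agent.H18.OmegaCore
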