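import Cfsg.Agent.PushGen.Blk
import Cfsg.Agent.H18.PushEnd

/-!
# Pushing up data with respect to a group `A` normalising the Sylow 2-subgroup `R` of `P`

`CfA A R P`: the configuration of `PushGen.Cf` with the normaliser of `R` replaced by a subgroup `A`.
`CfA.exists_dt`: pushing up data.  `CfA.false_of_odd`: `|A : R|` is not odd.

(helper18, for S3022.)
-/

set_option autoImplicit false
set_option linter.unusedSectionVars false

namespace Cfsg.Agent.H18.PushA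

open Subgroup Cfsg Cfsg.Agent.PLocal.ThompsonJ Cfsg.Agent.ZN Cfsg.Agent.ZN.ChoiceBase
open Cfsg.Agent.ZN.ChoiceSit
open Cfsg.Agent.Omega.SQ1.FFOne (MinH minH_of exists_inK mem_norm_of conj_mem_of_norm)
open Cfsg.Agent.Omega.SQ1.VOf (zc_norm zc_le_zl zl_norm)
open Cfsg.Agent.Omega.NO3b.FPB (SymIn.exists_off SymIn.main)
open Cfsg.Agent.Omega (FFThm.Stmt)
open Cfsg.Agent.MinSimple.MinParabolic (IsMinPar)
open Cfsg.Agent.MinSimple.PushUp
open Cfsg.Agent.Omega.PushUp (Dm mem_Dm)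
open Cfsg.Agent.PushGen

universe u

variable {G : Type u} [Group G]

/-- The configuration. -/
structure CfA (A R P : Subgroup G) : Prop where
  RA : R ≤ A
  AR : A ≤ normalizer (R : Set G)
  syl : Syl R P
  mp : IsMinPar R P
  sc : P ⊓ centralizer (o2 P : Set G) ≤ o2 P
  ne : R ≠ ⊥
  char : ∀ K : Subgroup G, K ≤ R → A ≤ normalizer (K : Set G) → P ≤ normalizer (K : Set G) → K = ⊥

namespace CfA

variable {A R P : Subgroup G}

theorem minH (c : CfA A R P) [Finite G] : MinH P R := minH_of c.syl c.mp c.sc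

theorem jj_ne (c : CfA A R P) [Finite G] : jj R ≠ ⊥ := by
  intro h0
  obtain ⟨E, hE⟩ := AA_nonempty R
  have h2 : E = ⊥ := by
    rw [eq_bot_iff, ← h0]
    exact le_jj hE
  obtain ⟨x, hx1, hx2⟩ : ∃ x ∈ R, x ≠ 1 := by
    by_contra hc
    push Not at hc
    exact c.ne (eq_bot_iff.2 fun x hx => mem_bot.2 (hc x hx))
  obtain ⟨y, hyR, hy1, hy2, -⟩ := Cf.exists_inv c.syl.2.1 (fun _ => True) (fun _ _ => trivial) hx1 hx2
    trivial
  have h3 := hE.2.2 (zpowers y) (Cfsg.Agent.PLocal.ElemAbSup.isElementaryAbelian_zpowers hy2) (zpowers_le.2 hyR)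
  rw [h2, Subgroup.card_bot] at h3
  have h4 : Nat.card (zpowers y) ≠ 1 := by
    rw [Nat.card_zpowers]
    exact fun h => hy1 (orderOf_eq_one_iff.1 h)
  have h5 : 0 < Nat.card (zpowers y) := Nat.card_pos
  omega

/-- `J(R) ≰ O₂(P)` -/
theorem nle (c : CfA A R P) [Finite G] : ¬ jj R ≤ o2 P := by
  intro hle
  have h1 : jj (o2 P) = jj R := jj_eq_of_jj_le hle (o2_le_syl c.syl)
  apply c.jj_ne
  refine c.char _ (jj_le R) (c.AR.trans (normalizer_le_of_cj (F := fun K => jj K) jj_cj R)) ?_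
  rw [← h1]
  exact (le_normalizer_o2 P).trans (normalizer_le_of_cj (F := fun K => jj K) jj_cj (o2 P))

theorem zc_ne (c : CfA A R P) [Finite G] : zc R ≠ ⊥ := by
  have : Fact (Nat.Prime 2) := ⟨Nat.prime_two⟩
  have : Nontrivial R := (Subgroup.nontrivial_iff_ne_bot R).2 c.ne
  have h1 := c.syl.2.1.center_nontrivial
  obtain ⟨⟨z, hz⟩, hz1⟩ := exists_ne (1 : center R)
  have hzT := mem_center_iff.1 hz
  have hz1' : (z : G) ≠ 1 := fun e => hz1 (Subtype.ext (Subtype.ext e))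
  obtain ⟨y, hyR, hy1, hy2, hyc⟩ := Cf.exists_inv c.syl.2.1 (fun x => ∀ y ∈ R, y * x = x * y)
    (fun x hx y hy => ((show Commute y x from hx y hy).pow_right 2).eq) z.2 hz1' (fun y hy => by
      have := hzT ⟨y, hy⟩
      exact congrArg Subtype.val this)
  intro h0
  have hy : y ∈ zc R := ChoiceBase.mem_zc.2 ⟨hyR, hy2, hyc⟩
  rw [h0] at hy
  exact hy1 (mem_bot.1 hy)

/-- `C_P(V) R ≠ P` -/
theorem cent_sup_ne (c : CfA A R P) [Finite G] :
    (P ⊓ centralizer (zl R P : Set G)) ⊔ R ≠ P := by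
  intro e
  apply c.zc_ne
  refine c.char _ (fun z hz => (ChoiceBase.mem_zc.1 hz).1)
    (fun x hx => mem_norm_of fun z hz => zc_norm (c.AR hx) hz) ?_
  rw [← e]
  refine sup_le ?_ ?_
  · rintro x ⟨hx, hxc⟩
    refine mem_norm_of fun z hz => ?_
    have := mem_centralizer_iff.1 hxc z (zc_le_zl hz)
    have e : x * z * x⁻¹ = z := by rw [← this]; group
    rwa [e]
  · intro t ht
    refine mem_norm_of fun z hz => ?_
    have e : t * z * t⁻¹ = z := by rw [(ChoiceBase.mem_zc.1 hz).2.2 t ht]; group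
    rwa [e]

/-- **The pushing up data of a configuration.** -/
theorem exists_dt [Finite G] (hFF : FFThm.Stmt.{u}) (c : CfA A R P) :
    ∃ L Q V D : Subgroup G, Dt A L (bau R) Q V (zj R) D ∧
      Ex L (bau R) Q V (zj R) ∧ ∀ v ∈ V, ∃ z ∈ zj R, ∃ n ∈ zl R P, v = z * n := by
  have hcore : ∀ K : Subgroup G, K ≤ R → (∀ x ∈ P, ∀ r ∈ K, x * r * x⁻¹ ∈ K) →
      (∀ a ∈ A, ∀ r ∈ K, a * r * a⁻¹ ∈ K) → K = ⊥ := fun K hK h1 h2 =>
    c.char K hK (fun a ha => mem_norm_of (h2 a ha)) (fun a ha => mem_norm_of (h1 a ha))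
  obtain ⟨E, hE, hoff⟩ := SymIn.exists_off c.minH c.cent_sup_ne c.nle
  obtain ⟨hno, ⟨F, _, _, _, k, hk, ⟨N⟩⟩ | ⟨k, m, hk, hm2, ⟨N⟩⟩⟩ :=
    hFF G R P c.syl c.mp c.sc ⟨E, hE.2.1.trans c.syl.1, hoff⟩
  · obtain ⟨N', E, h⟩ := exists_inK c.syl c.mp c.sc c.nle hk N
    obtain ⟨L, kb⟩ := h.exists_blk ⟨0, hk⟩
    refine ⟨L, _, _, _, datK kb h c.RA c.AR hcore, exK kb h, fun v hv => ?_⟩
    obtain ⟨z, hz, n, hn, rfl⟩ := h.mem_VL hv
    exact ⟨z, hz, n, h.NV _ hn, rfl⟩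
  · obtain ⟨ι, N', d, t, r, ⟨i⟩, h, -⟩ := SymIn.main c.minH c.nle hno hk (by omega) N
    obtain ⟨L, kb⟩ := h.exists_blk i
    refine ⟨L, _, _, _, datS kb h c.RA c.AR hcore, exS kb h, fun v hv => ?_⟩
    obtain ⟨z, hz, n, hn, rfl⟩ := Cfsg.Agent.Omega.SQ1.BauS.Blk.mem_VV h hv
    exact ⟨z, hz, n, h.NV _ hn, rfl⟩

/-- `V` commutes with its conjugates under `R` -/
theorem com_of [Finite G] (c : CfA A R P) {L Q V D : Subgroup G}
    (hdt : Dt A L (bau R) Q V (zj R) D) (hV : ∀ v ∈ V, ∃ z ∈ zj R, ∃ n ∈ zl R P, v = z * n) :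
    ∀ t ∈ R, Com V t := by
  intro t ht v hv u hu
  obtain ⟨z, hz, n, hn, hvn⟩ := hV v hv
  obtain ⟨z', hz', n', hn', hun⟩ := hV u hu
  have hzab := Cfsg.Agent.Omega.SQ1.VOf.MinH.comm c.minH
  have hvB : v ∈ bau R := hdt.VB hv
  have huB : cj t u ∈ bau R := hdt.cjB (c.RA ht) (hdt.VB hu)
  have hzt : t * z' * t⁻¹ ∈ zj R := hdt.cjZ (c.RA ht) hz'
  have hnt : t * n' * t⁻¹ ∈ zl R P := zl_norm t (c.syl.1 ht) n' hn'
  have e : cj t u = (t * z' * t⁻¹) * (t * n' * t⁻¹) := by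
    rw [hun]
    show t * (z' * n') * t⁻¹ = _
    group
  have hntB : t * n' * t⁻¹ ∈ bau R := by
    have h1 := mul_mem (inv_mem (hdt.VB (hdt.ZV hzt))) huB
    rw [e, inv_mul_cancel_left] at h1
    exact h1
  have c1 : Commute v (t * z' * t⁻¹) := hdt.BcZ v hvB _ hzt
  have c2 : Commute z (t * n' * t⁻¹) := (hdt.BcZ _ hntB z hz).symm
  have c3 : Commute n (t * n' * t⁻¹) := hzab n hn _ hnt
  have c4 : Commute v (t * n' * t⁻¹) := by rw [hvn]; exact c2.mul_left c3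
  rw [e]
  exact (c1.mul_right c4).eq

/-- **`|A : R|` is not odd.** -/
theorem false_of_odd [Finite G] (hFF : FFThm.Stmt.{u}) (c : CfA A R P)
    (hodd : ∀ a ∈ A, ∃ k : ℕ, a ^ (2 * k + 1) ∈ R) : False := by
  obtain ⟨L, Q, V, D, hdt, hex, hV⟩ := c.exists_dt hFF
  have hcom := c.com_of hdt hV
  obtain ⟨b, hb, v, hv, u, hu, hne⟩ := hdt.exists_noncommuting
  have hnc : ¬ Com V b := fun h => hne (h v hv u hu)
  have h1 : ¬ Com V (b⁻¹ * 1) := by rw [mul_one]; exact fun h => hnc h.of_inv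
  have h2 : ¬ Com V (b⁻¹ * (b * b)) := by rw [inv_mul_cancel_left]; exact hnc
  have h3 : b * b ∈ NQ Q := by
    rw [mem_NQ, ← hdt.nb_eq hex hb (one_mem A) (mul_mem hb hb) h1 h2, Dm_one]
  obtain ⟨k, hk⟩ := hodd b hb
  -- `b = r (b * b)⁻ᵏ`
  have h4 : Dm Q b = Dm Q (b ^ (2 * k + 1)) := by
    have e : b ^ (2 * k + 1) = b * (b * b) ^ k := by
      rw [pow_succ', pow_mul, pow_two]
    rw [e, Dm_mul, mem_NQ.1 (pow_mem h3 k)]
  have h5 : ¬ Com V (b ^ (2 * k + 1)) := by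
    have h6 := hdt.nc_congr (a := b) (a' := b ^ (2 * k + 1)) (c := 1) (pow_mem hb _) (one_mem A) h4 h1
    rw [mul_one] at h6
    exact fun h => h6 (Com.of_inv (by rwa [inv_inv]))
  exact h5 (hcom _ hk)

end CfA

end Cfsg.Agent.H18.PushA
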